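import Cfsg.Agent.H367.E6Out.Red

/-!
# Outer automorphisms of `E₆(q)`: the five cosets (helper367, for S3480)

`red` : let `Inn ≤ A ≤ Aut(E₆(q))`, `A ≠ Inn`. Then
1. `3 ∣ q - 1` and `A` contains all diagonal automorphisms, or
2. up to conjugation in `Aut`, `A` contains the coset of a field automorphism of prime order, or
3. of the graph automorphism, or
4. of the product of the graph automorphism with a field automorphism of order two, or
5. `3 ∣ q - 1` and `A` contains `η · fld τ` with `τ` of order three and `η` diagonal, not inner.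
-/

set_option autoImplicit false
set_option linter.unusedSectionVars false

namespace Cfsg.Agent.H367.E6Out

open scoped Pointwise
open Cfsg Cfsg.Lie Cfsg.Agent.ChevalleyStructure Cfsg.Agent.ChevalleyStructure.Elts
  Cfsg.Agent.Schreier.ChevLocal
  Cfsg.Agent.H70.ChevTab Cfsg.Agent.H70.ChevFix
  Cfsg.Agent.H70.ChevField Cfsg.Agent.H70.OutCount Cfsg.Agent.H70.OutE Cfsg.Agent.H523.Chev
open Cfsg.Agent.CpAut.RgdUntw (fld fld_coe fld_mul fld_one fld_pow)

universe u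

section Abs

variable {G : Type*} [Group G]

/-- the conjugacy of complements of a group of order three -/
theorem abs_conj {b r : G} (hb3 : b ^ 3 = 1) (hb1 : b ≠ 1) (hr : ∃ i : ℤ, r * b * r⁻¹ = b ^ i) {ℓ : ℕ}
    (hℓ : ℓ.Prime) (hrℓ : r ^ ℓ = 1) (hbr : (b * r) ^ ℓ = 1) : ℓ = 3 ∨ b * (b * r) * b⁻¹ = r := by
  have hob : orderOf b = 3 := by
    have := Fact.mk Nat.prime_three
    exact orderOf_eq_prime hb3 hb1
  obtain ⟨i, hi⟩ := hr
  have h1 : r * b * r⁻¹ = b ^ (i % 3) := by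
    rw [hi]
    have := zpow_mod_orderOf b i
    rw [hob] at this
    exact_mod_cast this.symm
  have h2 : i % 3 = 0 ∨ i % 3 = 1 ∨ i % 3 = 2 := by omega
  rcases h2 with h2 | h2 | h2
  · exfalso
    rw [h2, zpow_zero, mul_inv_eq_one] at h1
    exact hb1 (by simpa using h1)
  · left
    rw [h2, zpow_one, mul_inv_eq_iff_eq_mul] at h1
    have hc : Commute b r := h1.symm
    rw [hc.mul_pow, hrℓ, mul_one] at hbr
    have h3 : orderOf b ∣ ℓ := orderOf_dvd_of_pow_eq_one hbr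
    rw [hob] at h3
    exact ((Nat.prime_dvd_prime_iff_eq Nat.prime_three hℓ).1 h3).symm
  · right
    rw [h2] at h1
    have h3 : b ^ (2 : ℤ) = b⁻¹ := by
      rw [eq_inv_iff_mul_eq_one]
      have : b ^ (2 : ℤ) = b ^ 2 := by norm_cast
      rw [this, ← pow_succ]
      exact hb3
    rw [h3] at h1
    have h4 : r * b⁻¹ * r⁻¹ = b := by
      have := congrArg (·⁻¹) h1
      simpa [mul_assoc] using this
    calc b * (b * r) * b⁻¹ = b * b * (r * b⁻¹ * r⁻¹) * r := by group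
      _ = b ^ 3 * r := by rw [h4, pow_succ, pow_two]
      _ = r := by rw [hb3, one_mul]

end Abs

variable {F : Type u} [Field F]

/-- up to conjugation `A` contains the coset of `ρ` -/
def Cos (A : Subgroup (MulAut ↥(chevE6.group F))) (ρ : MulAut ↥(chevE6.group F)) : Prop :=
  ∃ β : MulAut ↥(chevE6.group F), ∀ x : ↥(chevE6.group F), β * (MulAut.conj x * ρ) * β⁻¹ ∈ A

theorem Cos.order {A : Subgroup (MulAut ↥(chevE6.group F))} {ρ : MulAut ↥(chevE6.group F)} (h : Cos A ρ)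
    (hord : ∀ a ∈ A, ∃ y : ↥(chevE6.group F), orderOf y = orderOf a) (x : ↥(chevE6.group F)) :
    ∃ y : ↥(chevE6.group F), orderOf y = orderOf (MulAut.conj x * ρ) := by
  obtain ⟨β, hβ⟩ := h
  obtain ⟨y, hy⟩ := hord _ (hβ x)
  refine ⟨y, ?_⟩
  rw [hy]
  exact orderOf_injective (MulAut.conj β).toMonoidHom (MulAut.conj β).injective (MulAut.conj x * ρ)

/-- an element of the coset fixing an element of order prime to it -/
theorem Cos.order_mul {A : Subgroup (MulAut ↥(chevE6.group F))} {ρ : MulAut ↥(chevE6.group F)} (h : Cos A ρ)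
    (hord : ∀ a ∈ A, ∃ y : ↥(chevE6.group F), orderOf y = orderOf a) {x : ↥(chevE6.group F)} (hx : ρ x = x)
    (hc : (orderOf x).Coprime (orderOf ρ)) : ∃ y : ↥(chevE6.group F), orderOf y = orderOf x * orderOf ρ := by
  obtain ⟨y, hy⟩ := h.order hord x
  refine ⟨y, ?_⟩
  have hcomm : Commute (MulAut.conj x) ρ := by
    apply MulEquiv.ext
    intro g
    show MulAut.conj x (ρ g) = ρ (MulAut.conj x g)
    rw [MulAut.conj_apply, MulAut.conj_apply, map_mul, map_mul, map_inv, hx]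
  have ho : orderOf (MulAut.conj x) = orderOf x :=
    orderOf_injective _ (conj_injective inList_E6) x
  rw [hy, hcomm.orderOf_mul_eq_mul_orderOf_of_coprime (by rw [ho]; exact hc), ho]

theorem cos_of_mem {A : Subgroup (MulAut ↥(chevE6.group F))} (hA : Inn ↥(chevE6.group F) ≤ A)
    {ρ : MulAut ↥(chevE6.group F)} (h : ρ ∈ A) : Cos A ρ :=
  ⟨1, fun x => by rw [one_mul, inv_one, mul_one]; exact mul_mem (hA ⟨x, rfl⟩) h⟩

theorem orderOf_fld (τ : F ≃+* F) : orderOf (fld chevE6 τ : MulAut ↥(chevE6.group F)) = orderOf τ := by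
  have h : ∀ n : ℕ, (fld chevE6 τ : MulAut ↥(chevE6.group F)) ^ n = 1 ↔ τ ^ n = 1 := by
    intro n
    rw [← fld_pow]
    constructor
    · intro h1
      have h2 := fld_vp (τ ^ n)
      rw [h1] at h2
      exact ((VP.one (F := F)).unique h2).2.1.symm
    · intro h1
      rw [h1, fld_one]
  exact orderOf_eq_orderOf_iff.2 h

theorem fld_gam_comm (τ : F ≃+* F) : Commute (fld chevE6 τ : MulAut ↥(chevE6.group F)) (gam F) := by
  have h1 := (fld_vp τ).mul (gam_vp (F := F))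
  have h2 := (gam_vp (F := F)).mul (fld_vp τ)
  simp only [mul_one, one_mul] at h1 h2
  have e : (fun _ : Fin chevE6.rank => (Units.mapEquiv τ.toMulEquiv (1 : Fˣ))) = fun _ => 1 := by
    funext i
    exact map_one _
  have e2 : (fun _ : Fin chevE6.rank => (Units.mapEquiv ((1 : F ≃+* F).toMulEquiv) (1 : Fˣ))) = fun _ => 1 := by
    funext i
    exact map_one _
  rw [e] at h1
  rw [e2] at h2
  exact h1.ext h2

/-- the standard representative -/
theorem rep_vp (τ : F ≃+* F) {π : Equiv.Perm (Fin chevE6.rank)} (hπ : π = 1 ∨ π = fl) :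
    ∃ ρ : MulAut ↥(chevE6.group F), (∃ c, VP ρ c τ π) ∧ ((π = 1 ∧ ρ = fld chevE6 τ) ∨ (π = fl ∧ ρ = fld chevE6 τ * gam F)) := by
  rcases hπ with rfl | rfl
  · exact ⟨_, ⟨_, fld_vp τ⟩, Or.inl ⟨rfl, rfl⟩⟩
  · refine ⟨fld chevE6 τ * gam F, ?_, Or.inr ⟨rfl, rfl⟩⟩
    have h1 := (fld_vp τ).mul (gam_vp (F := F))
    rw [mul_one, one_mul] at h1
    exact ⟨_, h1⟩

theorem fl_ne : fl ≠ 1 := flip_ne_one

/-- **The five cosets.** -/
theorem red [Finite F] {A : Subgroup (MulAut ↥(chevE6.group F))} (hA : Inn ↥(chevE6.group F) ≤ A)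
    (hne : ¬ A ≤ Inn ↥(chevE6.group F)) :
    (3 ∣ Nat.card F - 1 ∧ Dg F ≤ A) ∨
    (∃ τ : F ≃+* F, (orderOf τ).Prime ∧ Cos A (fld chevE6 τ)) ∨
    Cos A (gam F) ∨
    (∃ τ : F ≃+* F, orderOf τ = 2 ∧ Cos A (fld chevE6 τ * gam F)) ∨
    (3 ∣ Nat.card F - 1 ∧ ∃ τ : F ≃+* F, orderOf τ = 3 ∧ ∃ η ∈ Dg F, η ∉ Inn ↥(chevE6.group F) ∧
      η * fld chevE6 τ ∈ A) := by
  classical
  -- a diagonal automorphism in `A`
  by_cases hdiag : ∃ η ∈ Dg F, η ∉ Inn ↥(chevE6.group F) ∧ η ∈ A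
  · obtain ⟨η, h1, h2, h3⟩ := hdiag
    exact Or.inl ⟨three_dvd h1 h2, Dg_le h1 h2 hA h3⟩
  push Not at hdiag
  right
  -- an element of `A ∩ A0`, not inner
  obtain ⟨φ₀, hφ₀A, hφ₀n, c₀, τ₀, π₀, hπ₀, hv₀⟩ : ∃ φ ∈ A, φ ∉ Inn ↥(chevE6.group F) ∧
      ∃ c τ π, (π = 1 ∨ π = fl) ∧ VP φ c τ π := by
    rw [SetLike.le_def] at hne
    push Not at hne
    obtain ⟨θ, hθA, hθn⟩ := hne
    obtain ⟨x, π, -, -, h1, h2⟩ := exists_conj_perm (F := F) inList_E6 θ
    have hp : Perm chevE6 F (MulAut.conj x * θ) π := ⟨h1, h2⟩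
    obtain ⟨hπ, c, τ, hv⟩ := exists_vp_of_perm hp
    refine ⟨MulAut.conj x * θ, mul_mem (hA ⟨x, rfl⟩) hθA, fun h => hθn ?_, c, τ, π, hπ, hv⟩
    have h3 : θ = (MulAut.conj x)⁻¹ * (MulAut.conj x * θ) := by group
    rw [h3]
    exact mul_mem (inv_mem ⟨x, rfl⟩) h
  have hfinG : Finite (F ≃+* F) := Finite.of_injective (fun f : F ≃+* F => (f : F → F)) DFunLike.coe_injective
  -- the order of `(τ₀, π₀)`
  set P : (F ≃+* F) × Equiv.Perm (Fin chevE6.rank) := (τ₀, π₀) with hP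
  have hP1 : P ≠ 1 := by
    intro h
    have h1 : τ₀ = 1 := congrArg Prod.fst h
    have h2 : π₀ = 1 := congrArg Prod.snd h
    subst h1 h2
    exact hdiag φ₀ ⟨c₀, hv₀⟩ hφ₀n hφ₀A
  have hoP : orderOf P ≠ 1 := fun h => hP1 (orderOf_eq_one_iff.1 h)
  obtain ⟨ℓ, hℓ, hℓd⟩ := Nat.exists_prime_and_dvd hoP
  have hP0 : orderOf P ≠ 0 := (orderOf_pos P).ne'
  have hoℓ : orderOf (P ^ (orderOf P / ℓ)) = ℓ := orderOf_pow_orderOf_div hP0 hℓd
  obtain ⟨k, hk⟩ : ∃ k, k = orderOf P / ℓ := ⟨_, rfl⟩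
  rw [← hk] at hoℓ
  obtain ⟨c, hv⟩ := hv₀.pow k
  have hφA : φ₀ ^ k ∈ A := pow_mem hφ₀A k
  set φ := φ₀ ^ k with hφ
  set τ := τ₀ ^ k with hτ
  set π := π₀ ^ k with hπdef
  have hPk : P ^ k = (τ, π) := rfl
  rw [hPk] at hoℓ
  have hπ : π = 1 ∨ π = fl := by
    have : π = 1 ∨ π = fl := by
      rcases hπ₀ with h | h
      · left; rw [hπdef, h, one_pow]
      · rcases Nat.even_or_odd' k with ⟨j, hj | hj⟩
        · left; rw [hπdef, h, hj, pow_mul, pow_two, fl_fl, one_pow]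
        · right; rw [hπdef, h, hj, pow_succ, pow_mul, pow_two, fl_fl, one_pow, one_mul]
    exact this
  have hℓ1 : (τ, π) ^ ℓ = (1 : (F ≃+* F) × Equiv.Perm (Fin chevE6.rank)) := by
    rw [← hoℓ]; exact pow_orderOf_eq_one _
  have hτℓ : τ ^ ℓ = 1 := congrArg Prod.fst hℓ1
  have hπℓ : π ^ ℓ = 1 := congrArg Prod.snd hℓ1
  have hne1 : ¬ (τ = 1 ∧ π = 1) := by
    rintro ⟨h1, h2⟩
    rw [h1, h2] at hoℓ
    have : orderOf ((1 : F ≃+* F), (1 : Equiv.Perm (Fin chevE6.rank))) = 1 := orderOf_one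
    rw [this] at hoℓ
    exact hℓ.one_lt.ne hoℓ
  obtain ⟨ρ, ⟨c', hρ⟩, hρ'⟩ := rep_vp (F := F) τ hπ
  -- the conclusion from the coset
  have fin : Cos A ρ → (∃ τ : F ≃+* F, (orderOf τ).Prime ∧ Cos A (fld chevE6 τ)) ∨
      Cos A (gam F) ∨ (∃ τ : F ≃+* F, orderOf τ = 2 ∧ Cos A (fld chevE6 τ * gam F)) := by
    intro hc
    rcases hρ' with ⟨hp, hr⟩ | ⟨hp, hr⟩
    · left
      refine ⟨τ, ?_, hr ▸ hc⟩
      have h1 : τ ≠ 1 := fun h => hne1 ⟨h, hp⟩
      have := Fact.mk hℓ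
      rw [orderOf_eq_prime hτℓ h1]
      exact hℓ
    · right
      have hℓ2 : ℓ = 2 := by
        rw [hp] at hπℓ
        have h1 : orderOf fl ∣ ℓ := orderOf_dvd_of_pow_eq_one hπℓ
        have h2 : orderOf fl = 2 := by
          have := Fact.mk Nat.prime_two
          exact orderOf_eq_prime (by rw [pow_two, fl_fl]) fl_ne
        rw [h2] at h1
        exact ((Nat.prime_dvd_prime_iff_eq Nat.prime_two hℓ).1 h1).symm
      by_cases h1 : τ = 1
      · left
        rw [hr, h1, fld_one, one_mul] at hc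
        exact hc
      · right
        refine ⟨τ, ?_, hr ▸ hc⟩
        have := Fact.mk Nat.prime_two
        rw [hℓ2] at hτℓ
        exact orderOf_eq_prime hτℓ h1
  -- the diagonal part
  set η := φ * ρ⁻¹ with hη
  have hηD : η ∈ Dg F := by
    obtain ⟨c'', h1⟩ := hρ.inv
    have h2 := hv.mul h1
    rw [mul_inv_cancel, mul_inv_cancel] at h2
    exact ⟨_, h2⟩
  have hφη : φ = η * ρ := by rw [hη]; group
  have norm_mem : ∀ a ∈ Dg F, ρ * a * ρ⁻¹ ∈ Dg F := by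
    rintro a ⟨ca, ha⟩
    obtain ⟨c'', h1⟩ := hρ.inv
    have h2 := (hρ.mul ha).mul h1
    rw [mul_one, mul_one, mul_inv_cancel, mul_inv_cancel] at h2
    exact ⟨_, h2⟩
  by_cases hηI : η ∈ Inn ↥(chevE6.group F)
  · have hρA : ρ ∈ A := by
      have : ρ = η⁻¹ * φ := by rw [hφη]; group
      rw [this]
      exact mul_mem (hA (inv_mem hηI)) hφA
    rcases fin (cos_of_mem hA hρA) with h | h | h
    · exact Or.inl h
    · exact Or.inr (Or.inl h)
    · exact Or.inr (Or.inr (Or.inl h))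
  -- in the outer automorphism group
  have hφℓ : φ ^ ℓ ∈ Inn ↥(chevE6.group F) := by
    by_contra h
    obtain ⟨c'', h1⟩ := hv.pow ℓ
    rw [hτℓ, hπℓ] at h1
    exact hdiag _ ⟨c'', h1⟩ h (pow_mem hφA ℓ)
  have hρℓ : ρ ^ ℓ = 1 := by
    rcases hρ' with ⟨hp, hr⟩ | ⟨hp, hr⟩
    · rw [hr, ← fld_pow, hτℓ, fld_one]
    · have hg : gam F ^ ℓ = 1 := by
        rw [hp] at hπℓ
        have h1 : orderOf fl ∣ ℓ := orderOf_dvd_of_pow_eq_one hπℓ
        have h2 : orderOf fl = 2 := by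
          have := Fact.mk Nat.prime_two
          exact orderOf_eq_prime (by rw [pow_two, fl_fl]) fl_ne
        rw [h2] at h1
        obtain ⟨j, hj⟩ := h1
        rw [hj, pow_mul, pow_two, gam_gam, one_pow]
      rw [hr, (fld_gam_comm τ).mul_pow, ← fld_pow, hτℓ, fld_one, hg, one_mul]
  let mk := QuotientGroup.mk' (Inn ↥(chevE6.group F))
  have hmk : ∀ a, mk a = 1 ↔ a ∈ Inn ↥(chevE6.group F) := fun a => QuotientGroup.eq_one_iff a
  have hb3 : (mk η) ^ 3 = 1 := by rw [← map_pow, hmk]; exact cube_mem hηD hηI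
  have hb1 : mk η ≠ 1 := fun h => hηI ((hmk η).1 h)
  have hr : ∃ i : ℤ, mk ρ * mk η * (mk ρ)⁻¹ = mk η ^ i := by
    obtain ⟨i, hi⟩ := exists_zpow hηD hηI (norm_mem η hηD)
    refine ⟨i, ?_⟩
    have h1 := (hmk _).2 hi
    rw [map_mul, map_inv, map_zpow, inv_mul_eq_one, map_mul, map_mul, map_inv] at h1
    exact h1.symm
  have hrℓ : (mk ρ) ^ ℓ = 1 := by rw [← map_pow, hρℓ, map_one]
  have hbr : (mk η * mk ρ) ^ ℓ = 1 := by
    rw [← map_mul, ← hφη, ← map_pow, hmk]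
    exact hφℓ
  rcases abs_conj hb3 hb1 hr hℓ hrℓ hbr with h3 | hcj
  · -- order three
    have hp : π = 1 := by
      rcases hπ with h | h
      · exact h
      · exfalso
        rw [h, h3] at hπℓ
        have h4 : fl ^ 3 = fl := by rw [pow_succ, pow_two, fl_fl, one_mul]
        exact fl_ne (h4 ▸ hπℓ)
    have hr' : ρ = fld chevE6 τ := by
      rcases hρ' with ⟨_, h⟩ | ⟨h, _⟩
      · exact h
      · exact absurd (h.symm.trans hp) fl_ne
    refine Or.inr (Or.inr (Or.inr ⟨three_dvd hηD hηI, τ, ?_, η, hηD, hηI, ?_⟩))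
    · have := Fact.mk Nat.prime_three
      rw [h3] at hτℓ
      exact orderOf_eq_prime hτℓ fun h => hne1 ⟨h, hp⟩
    · rw [← hr', ← hφη]
      exact hφA
  · -- conjugate to the standard one
    have hco : Cos A ρ := by
      refine ⟨η⁻¹, fun x => ?_⟩
      -- `η φ η⁻¹ ρ⁻¹` is inner
      have h1 : η * φ * η⁻¹ * ρ⁻¹ ∈ Inn ↥(chevE6.group F) := by
        have h0 : mk φ = mk η * mk ρ := by rw [← map_mul, ← hφη]
        rw [← hmk, map_mul, map_mul, map_mul, map_inv, map_inv, h0, hcj, mul_inv_cancel]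
      have h2 : η⁻¹ * (MulAut.conj x * ρ) * η⁻¹⁻¹ =
          (η⁻¹ * (MulAut.conj x * (η * φ * η⁻¹ * ρ⁻¹)⁻¹) * η) * φ := by group
      rw [h2]
      refine mul_mem (hA ?_) hφA
      have h3 : MulAut.conj x * (η * φ * η⁻¹ * ρ⁻¹)⁻¹ ∈ Inn ↥(chevE6.group F) := mul_mem ⟨x, rfl⟩ (inv_mem h1)
      have hnor : (Inn ↥(chevE6.group F)).Normal := inferInstance
      have := hnor.conj_mem _ h3 η⁻¹
      rwa [inv_inv] at this
    rcases fin hco with h | h | h
    · exact Or.inl h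
    · exact Or.inr (Or.inl h)
    · exact Or.inr (Or.inr (Or.inl h))

end Cfsg.Agent.H367.E6Out
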