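import Cfsg.Agent.H367.E6Out.Graph
import Cfsg.Agent.H351.F4Out.Elt
import Cfsg.Agent.H967.CopMat
import Cfsg.Agent.S1063

/-!
# Field automorphisms of `E₆(q)` and element orders (helper367, for S3480)

* `fe` : `E₆(q₀) → E₆(q)`, fixed by `fld τ`, `q₀` the order of the fixed field of `τ`;
* `exists_nine`, `exists_two`, `exists_eight` : elements of `E₆(q₀)`;
* `not_fld_ne_three` : `A` does not contain the coset of a field automorphism of prime order `ℓ ≠ 3`;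
* `not_gam`.
-/

set_option autoImplicit false
set_option linter.unusedSectionVars false

namespace Cfsg.Agent.H367.E6Out

open scoped Pointwise
open Cfsg Cfsg.Lie Cfsg.Agent.ChevalleyStructure Cfsg.Agent.ChevalleyStructure.Elts
  Cfsg.Agent.Schreier.ChevLocal
  Cfsg.Agent.H70.ChevTab Cfsg.Agent.H70.ChevFix
  Cfsg.Agent.H70.ChevField Cfsg.Agent.H70.OutCount Cfsg.Agent.H70.OutE Cfsg.Agent.H523.Chev
open Cfsg.Agent.CpAut.RgdUntw (fld fld_coe fld_mul fld_one fld_pow)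
open Cfsg.Agent.H129.FE (xg toE6 toE6_xg mem_of_simple toE6_injective)
open Cfsg.Agent.H967.CopMat (Fx mem_Fx card_Fx)
open Cfsg.Agent.GpExc.Field (emb coe_emb emb_injective glMap)
open Cfsg.Agent.H414.E6

universe u

variable {F : Type u} [Field F]

/-! ### the fixed group -/

/-- `E₆(q₀) → E₆(q)` -/
noncomputable def fe (τ : F ≃+* F) : ↥(chevE6.group ↥(Fx τ)) →* ↥(chevE6.group F) := emb inList_E6 (Fx τ).subtype

theorem fe_injective (τ : F ≃+* F) : Function.Injective (fe τ) := emb_injective inList_E6 _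

theorem fld_fe (τ : F ≃+* F) (x : ↥(chevE6.group ↥(Fx τ))) : fld chevE6 τ (fe τ x) = fe τ x := by
  apply Subtype.ext
  apply Units.ext
  rw [fld_coe]
  ext i j
  show τ ((fe τ x : GL chevE6.Idx F) i j) = _
  exact (((x : GL chevE6.Idx ↥(Fx τ)) : Matrix chevE6.Idx chevE6.Idx ↥(Fx τ)) i j).2

/-- elements of `E₆(q₀)` give elements fixed by `fld τ` -/
theorem exists_fixed (τ : F ≃+* F) {n : ℕ} (h : ∃ x : ↥(chevE6.group ↥(Fx τ)), orderOf x = n) :
    ∃ x : ↥(chevE6.group F), orderOf x = n ∧ fld chevE6 τ x = x := by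
  obtain ⟨x, hx⟩ := h
  exact ⟨fe τ x, by rw [orderOf_injective (fe τ) (fe_injective τ) x, hx], fld_fe τ x⟩

/-! ### primes -/

/-- a prime `r ≠ 3` dividing `a⁶ + a³ + 1` -/
theorem exists_prime_nine {a : ℕ} (ha : 2 ≤ a) : ∃ r : ℕ, r.Prime ∧ r ≠ 3 ∧ r ∣ a ^ 6 + a ^ 3 + 1 := by
  by_contra hcon
  push Not at hcon
  set N := a ^ 6 + a ^ 3 + 1 with hN
  have h8 : 8 ≤ a ^ 3 := by
    calc 8 = 2 ^ 3 := by norm_num
      _ ≤ a ^ 3 := Nat.pow_le_pow_left ha 3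
  have h64 : 64 ≤ a ^ 6 := by
    calc 64 = 2 ^ 6 := by norm_num
      _ ≤ a ^ 6 := Nat.pow_le_pow_left ha 6
  have hN0 : N ≠ 0 := by omega
  have h3 : N = 3 ^ N.primeFactorsList.length := Nat.eq_prime_pow_of_unique_prime_dvd hN0 fun {d} hd hdN => by
    by_contra h
    exact hcon d hd h hdN
  obtain ⟨k, hk⟩ : ∃ k, k = N.primeFactorsList.length := ⟨_, rfl⟩
  rw [← hk] at h3
  have h9 : ¬ 9 ∣ N := by
    have h1 : N % 9 = ((a ^ 3 % 9) ^ 2 + a ^ 3 % 9 + 1) % 9 := by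
      rw [hN, show a ^ 6 = (a ^ 3) ^ 2 by ring, Nat.add_mod, Nat.add_mod ((a ^ 3) ^ 2), Nat.pow_mod]
      simp [Nat.add_mod]
    have h2 : a ^ 3 % 9 = (a % 9) ^ 3 % 9 := Nat.pow_mod a 3 9
    have h4 : a % 9 < 9 := Nat.mod_lt _ (by norm_num)
    rw [h2] at h1
    have key : ∀ b < 9, (((b ^ 3 % 9) ^ 2 + b ^ 3 % 9 + 1) % 9) ≠ 0 := by decide
    intro h9
    exact key _ h4 (h1.symm.trans (Nat.mod_eq_zero_of_dvd h9))
  have hk2 : k < 2 := by
    by_contra hlt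
    apply h9
    rw [h3]
    exact pow_dvd_pow 3 (show 2 ≤ k by omega)
  interval_cases k <;> omega

/-- an odd prime dividing `a⁴ + 1` -/
theorem exists_prime_eight {a : ℕ} (ha : 2 ≤ a) : ∃ r : ℕ, r.Prime ∧ r ≠ 2 ∧ r ∣ a ^ 4 + 1 := by
  by_contra hcon
  push Not at hcon
  set N := a ^ 4 + 1 with hN
  have h16 : 16 ≤ a ^ 4 := by
    calc 16 = 2 ^ 4 := by norm_num
      _ ≤ a ^ 4 := Nat.pow_le_pow_left ha 4
  have hN0 : N ≠ 0 := by omega
  have h3 : N = 2 ^ N.primeFactorsList.length := Nat.eq_prime_pow_of_unique_prime_dvd hN0 fun {d} hd hdN => by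
    by_contra h
    exact hcon d hd h hdN
  obtain ⟨k, hk⟩ : ∃ k, k = N.primeFactorsList.length := ⟨_, rfl⟩
  rw [← hk] at h3
  have h9 : ¬ 4 ∣ N := by
    have h1 : N % 4 = ((a % 4) ^ 4 + 1) % 4 := by
      rw [hN, Nat.add_mod, Nat.pow_mod]
      simp [Nat.add_mod]
    have h4 : a % 4 < 4 := Nat.mod_lt _ (by norm_num)
    have key : ∀ b < 4, (b ^ 4 + 1) % 4 ≠ 0 := by decide
    intro h9
    exact key _ h4 (h1.symm.trans (Nat.mod_eq_zero_of_dvd h9))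
  have hk2 : k < 2 := by
    by_contra hlt
    apply h9
    rw [h3]
    exact pow_dvd_pow 2 (show 2 ≤ k by omega)
  interval_cases k <;> omega

theorem nine_pow {a r ℓ : ℕ} (h3 : ¬ 3 ∣ ℓ) (hd : r ∣ a ^ 6 + a ^ 3 + 1) :
    r ∣ (a ^ ℓ) ^ 6 + (a ^ ℓ) ^ 3 + 1 := by
  rw [← ZMod.natCast_eq_zero_iff] at hd ⊢
  push_cast at hd ⊢
  set y : ZMod r := (a : ZMod r) ^ 3 with hy
  have h1 : y ^ 2 + y + 1 = 0 := by rw [hy]; linear_combination hd
  have hy3 : y ^ 3 = 1 := by linear_combination (y - 1) * h1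
  have e : ((a : ZMod r) ^ ℓ) ^ 6 + ((a : ZMod r) ^ ℓ) ^ 3 + 1 = (y ^ ℓ) ^ 2 + y ^ ℓ + 1 := by
    rw [hy]; ring
  rw [e]
  obtain ⟨k, hk | hk⟩ : ∃ k, ℓ = 3 * k + 1 ∨ ℓ = 3 * k + 2 := ⟨ℓ / 3, by omega⟩
  · rw [hk, pow_add, pow_mul, hy3, one_pow, one_mul, pow_one, h1]
  · rw [hk, pow_add, pow_mul, hy3, one_pow, one_mul]
    linear_combination (y ^ 2 - y + 1) * h1

/-! ### elements of `E₆(q₀)` -/

section Card

variable [Finite F]

theorem card_E6 : Nat.gcd 3 (Nat.card F - 1) * Nat.card ↥(chevE6.group F) =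
    Nat.card F ^ 36 * (Nat.card F ^ 2 - 1) * (Nat.card F ^ 5 - 1) * (Nat.card F ^ 6 - 1) * (Nat.card F ^ 8 - 1) *
      (Nat.card F ^ 9 - 1) * (Nat.card F ^ 12 - 1) := by
  have : Fintype F := Fintype.ofFinite F
  exact S1063.result (F := F) Nat.card_eq_fintype_card.symm

theorem two_le : 2 ≤ Nat.card F := Finite.one_lt_card

theorem exists_of_dvd {r : ℕ} (hr : r.Prime) (h3 : r ≠ 3) (hd : r ∣ Nat.card F ^ 36 * (Nat.card F ^ 2 - 1) *
    (Nat.card F ^ 5 - 1) * (Nat.card F ^ 6 - 1) * (Nat.card F ^ 8 - 1) *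
      (Nat.card F ^ 9 - 1) * (Nat.card F ^ 12 - 1)) : ∃ x : ↥(chevE6.group F), orderOf x = r := by
  have := Fact.mk hr
  apply exists_prime_orderOf_dvd_card' (G := ↥(chevE6.group F)) r
  rw [← card_E6] at hd
  rcases (hr.dvd_mul).1 hd with h | h
  · exfalso
    have h1 := (Nat.prime_dvd_prime_iff_eq hr Nat.prime_three).1 (h.trans (Nat.gcd_dvd_left _ _))
    exact h3 h1
  · exact h

theorem exists_two : ∃ x : ↥(chevE6.group F), orderOf x = 2 := by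
  refine exists_of_dvd Nat.prime_two (by norm_num) ?_
  have h2 : 2 ∣ Nat.card F ^ 36 * (Nat.card F ^ 2 - 1) := by
    rcases Nat.even_or_odd (Nat.card F) with h | h
    · exact Dvd.dvd.mul_right (dvd_pow h.two_dvd (by norm_num)) _
    · apply Dvd.dvd.mul_left
      have h1 : Odd (Nat.card F ^ 2) := h.pow
      obtain ⟨k, hk⟩ := h1
      exact ⟨k, by omega⟩
  exact ((((h2.mul_right _).mul_right _).mul_right _).mul_right _).mul_right _

theorem exists_nine {r : ℕ} (hr : r.Prime) (h3 : r ≠ 3) (hd : r ∣ Nat.card F ^ 6 + Nat.card F ^ 3 + 1) :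
    ∃ x : ↥(chevE6.group F), orderOf x = r := by
  refine exists_of_dvd hr h3 ?_
  have h1 : Nat.card F ^ 6 + Nat.card F ^ 3 + 1 ∣ Nat.card F ^ 9 - 1 := by
    refine ⟨Nat.card F ^ 3 - 1, ?_⟩
    have h8 : 1 ≤ Nat.card F ^ 3 := Nat.one_le_pow _ _ Nat.card_pos
    obtain ⟨m, hm⟩ : ∃ m, Nat.card F ^ 3 = m + 1 := ⟨Nat.card F ^ 3 - 1, by omega⟩
    have e9 : Nat.card F ^ 9 = (Nat.card F ^ 3) ^ 3 := by ring
    have e6 : Nat.card F ^ 6 = (Nat.card F ^ 3) ^ 2 := by ring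
    rw [e9, e6, hm, Nat.add_sub_cancel]
    have : (m + 1) ^ 3 = ((m + 1) ^ 2 + (m + 1) + 1) * m + 1 := by ring
    rw [this, Nat.add_sub_cancel]
  exact (Dvd.dvd.mul_left (hd.trans h1) _).mul_right _

theorem exists_eight {r : ℕ} (hr : r.Prime) (h3 : r ≠ 3) (hd : r ∣ Nat.card F ^ 4 + 1) :
    ∃ x : ↥(chevE6.group F), orderOf x = r := by
  refine exists_of_dvd hr h3 ?_
  have h1 : Nat.card F ^ 4 + 1 ∣ Nat.card F ^ 8 - 1 := by
    refine ⟨Nat.card F ^ 4 - 1, ?_⟩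
    obtain ⟨m, hm⟩ : ∃ m, Nat.card F ^ 4 = m + 1 :=
      ⟨Nat.card F ^ 4 - 1, by have : 1 ≤ Nat.card F ^ 4 := Nat.one_le_pow _ _ Nat.card_pos; omega⟩
    have e9 : Nat.card F ^ 8 = (Nat.card F ^ 4) ^ 2 := by ring
    rw [e9, hm, Nat.add_sub_cancel]
    have : (m + 1) ^ 2 = (m + 1 + 1) * m + 1 := by ring
    rw [this, Nat.add_sub_cancel]
  exact ((Dvd.dvd.mul_left (hd.trans h1) _).mul_right _).mul_right _

end Card

/-! ### the cosets -/

section Cosets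

variable [Finite F] {D : Dat} (hε : D.ε = 1) (hq : D.q = Nat.card F) (hM : Sit D ↥(chevE6.group F))
  {A : Subgroup (MulAut ↥(chevE6.group F))}
  (hord : ∀ a ∈ A, ∃ y : ↥(chevE6.group F), orderOf y = orderOf a)

include hq in
theorem card_Fx' (τ : F ≃+* F) : D.q = Nat.card ↥(Fx τ) ^ orderOf τ := by rw [hq]; exact card_Fx τ

include hε in
/-- primes `≠ 3` of `q⁶ + q³ + 1` divide `n` -/
theorem dvd_n_of {r : ℕ} (hr : r.Prime) (h3 : r ≠ 3) (hd : r ∣ D.q ^ 6 + D.q ^ 3 + 1) : r ∣ D.n := by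
  have h1 := D.hn
  rw [hε, one_mul] at h1
  have h2 : D.d * D.n = D.q ^ 6 + D.q ^ 3 + 1 := by exact_mod_cast h1
  rw [← h2] at hd
  rcases (hr.dvd_mul).1 hd with h | h
  · exfalso
    rcases D.hd with hd' | hd' <;> rw [hd'] at h
    · exact hr.one_lt.ne' (Nat.dvd_one.1 h)
    · exact h3 ((Nat.prime_dvd_prime_iff_eq hr Nat.prime_three).1 h)
  · exact h

include hε hq hM hord in
/-- **Field automorphisms of prime order `ℓ ≠ 3`.** -/
theorem not_fld_ne_three {τ : F ≃+* F} (hℓ : (orderOf τ).Prime) (h3 : orderOf τ ≠ 3) (hc : Cos A (fld chevE6 τ)) :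
    False := by
  obtain ⟨ℓ, hℓe⟩ : ∃ ℓ, ℓ = orderOf τ := ⟨_, rfl⟩
  have hoρ : orderOf (fld chevE6 τ : MulAut ↥(chevE6.group F)) = ℓ := by rw [orderOf_fld, hℓe]
  rw [← hℓe] at hℓ h3
  have h3ℓ : ¬ 3 ∣ ℓ := fun h => h3 ((Nat.prime_dvd_prime_iff_eq Nat.prime_three hℓ).1 h).symm
  obtain ⟨r, hr, hr3, hrd⟩ := exists_prime_nine (two_le (F := ↥(Fx τ)))
  have hqq := card_Fx' hq τ
  rw [← hℓe] at hqq
  have hrn : r ∣ D.n := by
    refine dvd_n_of hε hr hr3 ?_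
    rw [hqq]
    exact nine_pow h3ℓ hrd
  obtain ⟨x, hx, hfx⟩ := exists_fixed τ (exists_nine hr hr3 hrd)
  have hℓn : ℓ ∣ D.n := by
    by_cases hlr : r = ℓ
    · rw [← hlr]; exact hrn
    · obtain ⟨y, hy⟩ := hc.order_mul hord hfx (by rw [hx, hoρ]; exact (Nat.coprime_primes hr hℓ).2 hlr)
      rw [hx, hoρ] at hy
      have := hM.iso y r hr hrn (hy ▸ dvd_mul_right r ℓ)
      rw [hy] at this
      exact (Dvd.intro_left _ rfl).trans this
  have hℓ2 : ℓ ≠ 2 := by rintro rfl; exact D.n_odd hℓn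
  obtain ⟨x2, hx2, hfx2⟩ := exists_fixed τ (exists_two (F := ↥(Fx τ)))
  obtain ⟨y, hy⟩ := hc.order_mul hord hfx2 (by rw [hx2, hoρ]; exact (Nat.coprime_primes Nat.prime_two hℓ).2 hℓ2.symm)
  rw [hx2, hoρ] at hy
  have := hM.iso y ℓ hℓ hℓn (hy ▸ dvd_mul_left ℓ 2)
  rw [hy] at this
  exact D.n_odd ((Dvd.intro _ rfl).trans this)

theorem orderOf_gam : orderOf (gam F) = 2 := by
  have := Fact.mk Nat.prime_two
  refine orderOf_eq_prime (by rw [pow_two, gam_gam]) fun h => ?_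
  have h1 := gam_vp (F := F)
  rw [h] at h1
  exact fl_ne (h1.unique VP.one).2.2

include hq hM hord in
/-- **The graph automorphism.** -/
theorem not_gam (hc : Cos A (gam F)) : False := by
  have : Fintype F := Fintype.ofFinite F
  obtain ⟨s, hs, hsm, -, -⟩ := hM.exists_prime_m
  have hs2 : s ≠ 2 := by rintro rfl; exact D.m_odd hsm
  -- an element of `F₄(q)` of order `s`
  obtain ⟨x0, hx0⟩ : ∃ x : ↥(chevF4.group F), orderOf x = s := by
    have := Fact.mk hs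
    apply exists_prime_orderOf_dvd_card' (G := ↥(chevF4.group F)) s
    rw [S1062.result (F := F) (q := D.q) (by rw [hq, Nat.card_eq_fintype_card])]
    apply Dvd.dvd.mul_left
    refine hsm.trans ⟨(D.q ^ 6 - 1) * (D.q ^ 2 + 1), ?_⟩
    have h1 := D.m_add
    have h2 := D.two_le
    have h6 : 1 ≤ D.q ^ 6 := Nat.one_le_pow _ _ (by omega)
    have h12 : 1 ≤ D.q ^ 12 := Nat.one_le_pow _ _ (by omega)
    zify [h6, h12]
    have hm : (D.m : ℤ) = (D.q : ℤ) ^ 4 - D.q ^ 2 + 1 := D.hm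
    rw [hm]
    ring
  have hx : orderOf (toE6 F x0) = s := by rw [orderOf_injective (toE6 F) (toE6_injective F) x0, hx0]
  obtain ⟨y, hy⟩ := hc.order_mul hord (gam_toE6 x0) (by
    rw [hx, orderOf_gam]; exact (Nat.coprime_primes hs Nat.prime_two).2 hs2)
  rw [hx, orderOf_gam] at hy
  have := hM.tor y s hs hsm (hy ▸ dvd_mul_right s 2)
  rw [hy] at this
  exact D.e_odd ((Dvd.intro_left _ rfl).trans this)

end Cosets

end Cfsg.Agent.H367.E6Out
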