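import Cfsg.Agent.H367.E6Out.Three
import Cfsg.Agent.H129.ExactD

/-!
# Products of a field automorphism of order three with a diagonal automorphism (helper367, for S3480)

* `dgc c` : the diagonal automorphism with parameters `c`;
* `dgc_single_not_inn` : not inner if `c` is a generator at the node `0` and `1` at the others;
* `not_diag_fld` : `A` does not contain `η * fld τ`, `τ` of order three, `η` diagonal and not inner.
-/

set_option autoImplicit false
set_option linter.unusedSectionVars false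

namespace Cfsg.Agent.H367.E6Out

open scoped Pointwise
open Cfsg Cfsg.Lie Cfsg.Agent.ChevalleyStructure Cfsg.Agent.ChevalleyStructure.Elts
  Cfsg.Agent.ChevalleyStructure.NConj Cfsg.Agent.ChevalleyStructure.BNChev Cfsg.Agent.S1042
  Cfsg.Agent.Schreier.ChevLocal
  Cfsg.Agent.H70.AutFix Cfsg.Agent.H70.ChevTab Cfsg.Agent.H70.ChevFix
  Cfsg.Agent.H70.ChevField Cfsg.Agent.H70.OutCount Cfsg.Agent.H70.OutE Cfsg.Agent.H523.Chev
open Cfsg.Agent.CpAut.RgdUntw (fld fld_coe fld_mul fld_one fld_pow)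

universe u

variable {F : Type u} [Field F]

/-- the diagonal automorphism -/
noncomputable def dgc (c : Fin chevE6.rank → Fˣ) : MulAut ↥(chevE6.group F) := (exists_vp c 1).choose

theorem dgc_vp (c : Fin chevE6.rank → Fˣ) : VP (dgc c) c 1 1 := (exists_vp c 1).choose_spec

theorem dgc_mem (c : Fin chevE6.rank → Fˣ) : dgc c ∈ Dg F := ⟨c, dgc_vp c⟩

theorem dgc_mul (c c' : Fin chevE6.rank → Fˣ) : dgc (c * c') = dgc c * dgc c' :=
  (dgc_vp (c * c')).ext ((dgc_vp c).mul (dgc_vp c'))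

theorem dgc_one : dgc (1 : Fin chevE6.rank → Fˣ) = 1 := (dgc_vp 1).ext VP.one

theorem dgc_inv (c : Fin chevE6.rank → Fˣ) : dgc c⁻¹ = (dgc c)⁻¹ := by
  rw [eq_inv_iff_mul_eq_one, ← dgc_mul, inv_mul_cancel, dgc_one]

theorem dgc_pow (c : Fin chevE6.rank → Fˣ) (n : ℕ) : dgc (c ^ n) = dgc c ^ n := by
  induction n with
  | zero => rw [pow_zero, pow_zero, dgc_one]
  | succ n ih => rw [pow_succ, pow_succ, dgc_mul, ih]

theorem dgc_eq_one {c : Fin chevE6.rank → Fˣ} (h : dgc c = 1) : c = 1 := by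
  have h1 := dgc_vp c
  rw [h] at h1
  exact (h1.unique VP.one).1

/-- `t ^ f` -/
def pw (t : Fˣ) (f : Fin chevE6.rank → ℤ) : Fin chevE6.rank → Fˣ := fun j => t ^ f j

theorem pw_add (t : Fˣ) (f g : Fin chevE6.rank → ℤ) : pw t (f + g) = pw t f * pw t g :=
  funext fun _ => zpow_add _ _ _

theorem pw_neg (t : Fˣ) (f : Fin chevE6.rank → ℤ) : pw t (-f) = (pw t f)⁻¹ :=
  funext fun _ => zpow_neg _ _

theorem pw_zero (t : Fˣ) : pw t (0 : Fin chevE6.rank → ℤ) = 1 :=
  funext fun _ => zpow_zero _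

/-- the exponents giving inner automorphisms -/
def Q (F : Type u) [Field F] : AddSubgroup (Fin chevE6.rank → ℤ) where
  carrier := {f | ∀ t : Fˣ, dgc (pw t f) ∈ Inn ↥(chevE6.group F)}
  add_mem' := by
    intro f g hf hg t
    rw [pw_add, dgc_mul]
    exact mul_mem (hf t) (hg t)
  zero_mem' := by
    intro t
    rw [pw_zero, dgc_one]
    exact one_mem _
  neg_mem' := by
    intro f hf t
    rw [pw_neg, dgc_inv]
    exact inv_mem (hf t)

/-- the rows of the Cartan matrix -/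
def row (i : Fin chevE6.rank) : Fin chevE6.rank → ℤ := fun j => chevE6.cartan i (chevE6.simple j)

theorem row_neg : ∀ i < 6, ∀ j < 6, chevE6.cartan i (chevE6.neg (chevE6.simple j)) = -chevE6.cartan i (chevE6.simple j) := by
  decide +kernel

theorem row_mem (i : Fin chevE6.rank) : row i ∈ Q F := by
  intro t
  have h : VP (MulAut.conj (he inList_E6 (chevE6.simple i) (t : F))) (pw t (row i)) 1 1 := by
    constructor
    · intro j u
      rw [MulAut.conj_apply, he_conj inList_E6 i.2 (simple_lt inList_E6 j.2) t.ne_zero]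
      show _ = xe inList_E6 (chevE6.simple j) (((t ^ row i j : Fˣ) : F) * u)
      rw [Units.val_zpow_eq_zpow_val]
      rfl
    · intro j u
      rw [MulAut.conj_apply, he_conj inList_E6 i.2 (neg_simple_lt inList_E6 j.2) t.ne_zero, row_neg i i.2 j j.2,
        zpow_neg]
      show _ = xe inList_E6 (chevE6.neg (chevE6.simple j)) (((t ^ row i j : Fˣ) : F)⁻¹ * u)
      rw [Units.val_zpow_eq_zpow_val]
      rfl
  rw [(dgc_vp _).ext h]
  exact ⟨_, rfl⟩

/-- the unit vectors -/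
def en (i : Fin chevE6.rank) : Fin chevE6.rank → ℤ := fun j => if j = i then 1 else 0

/-- the nodes -/
abbrev nd (i : ℕ) (h : i < chevE6.rank := by decide) : Fin chevE6.rank := ⟨i, h⟩

theorem rel2 : en (nd 2) = en (nd 0) + en (nd 0) + -row (nd 0) := by decide +kernel
theorem rel3 : en (nd 3) = en (nd 2) + en (nd 2) + -row (nd 2) + -en (nd 0) := by decide +kernel
theorem rel1 : en (nd 1) = en (nd 1) + en (nd 1) + en (nd 1) + -(row (nd 1) + en (nd 3)) := by decide +kernel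
theorem rel4 : en (nd 4) = en (nd 3) + en (nd 3) + -row (nd 3) + -en (nd 2) + -en (nd 1) := by decide +kernel
theorem rel5 : en (nd 5) = en (nd 4) + en (nd 4) + -row (nd 4) + -en (nd 3) := by decide +kernel

theorem all_mem (h0 : en (nd 0) ∈ Q F) (h3 : ∀ i, en i + en i + en i ∈ Q F) : ∀ i, en i ∈ Q F := by
  have e2 : en (nd 2) ∈ Q F := by
    rw [rel2]; exact add_mem (add_mem h0 h0) (neg_mem (row_mem _))
  have e3 : en (nd 3) ∈ Q F := by
    rw [rel3]; exact add_mem (add_mem (add_mem e2 e2) (neg_mem (row_mem _))) (neg_mem h0)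
  have e1 : en (nd 1) ∈ Q F := by
    rw [rel1]; exact add_mem (h3 _) (neg_mem (add_mem (row_mem _) e3))
  have e4 : en (nd 4) ∈ Q F := by
    rw [rel4]; exact add_mem (add_mem (add_mem (add_mem e3 e3) (neg_mem (row_mem _))) (neg_mem e2)) (neg_mem e1)
  have e5 : en (nd 5) ∈ Q F := by
    rw [rel5]; exact add_mem (add_mem (add_mem e4 e4) (neg_mem (row_mem _))) (neg_mem e3)
  intro i
  have hi : ∀ i : Fin chevE6.rank, i = nd 0 ∨ i = nd 1 ∨ i = nd 2 ∨ i = nd 3 ∨ i = nd 4 ∨ i = nd 5 := by decide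
  rcases hi i with rfl | rfl | rfl | rfl | rfl | rfl
  exacts [h0, e1, e2, e3, e4, e5]

theorem all_inn (h : ∀ i, en i ∈ Q F) (c : Fin chevE6.rank → Fˣ) : dgc c ∈ Inn ↥(chevE6.group F) := by
  classical
  let dH : (Fin chevE6.rank → Fˣ) →* MulAut ↥(chevE6.group F) := MonoidHom.mk' dgc dgc_mul
  have h1 : c ∈ (Inn ↥(chevE6.group F)).comap dH := by
    rw [← Finset.univ_prod_mulSingle c]
    refine Subgroup.prod_mem _ fun i _ => ?_
    have h2 : Pi.mulSingle i (c i) = pw (c i) (en i) := by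
      funext j
      by_cases hj : j = i
      · subst hj
        simp [pw, en]
      · simp [pw, en, hj]
    rw [h2]
    exact h i (c i)
  exact h1

section Gen

variable [Finite F] {η : MulAut ↥(chevE6.group F)} (hη : η ∈ Dg F) (hn : η ∉ Inn ↥(chevE6.group F))

include hη hn in
theorem cube_all {ζ : MulAut ↥(chevE6.group F)} (hζ : ζ ∈ Dg F) : ζ ^ 3 ∈ Inn ↥(chevE6.group F) := by
  have h1 := Subgroup.pow_index_mem ((Inn ↥(chevE6.group F)).subgroupOf (Dg F)) (⟨ζ, hζ⟩ : ↥(Dg F))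
  rw [index_three hη hn] at h1
  exact h1

include hη hn in
/-- the diagonal automorphism of a generator at the node `0` is not inner -/
theorem dgc_single_not_inn {g : Fˣ} (hg : ∀ x : Fˣ, x ∈ Subgroup.zpowers g) :
    dgc (pw g (en (nd 0))) ∉ Inn ↥(chevE6.group F) := by
  intro h
  obtain ⟨c, hc⟩ := hη
  apply hn
  rw [hc.ext (dgc_vp c)]
  refine all_inn (all_mem ?_ ?_) c
  · intro t
    obtain ⟨k, rfl⟩ := mem_powers_iff_mem_zpowers.2 (hg t)
    have e : pw (g ^ k) (en (nd 0)) = pw g (en (nd 0)) ^ k := by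
      funext j
      show (g ^ k) ^ (en (nd 0) j) = (g ^ (en (nd 0) j)) ^ k
      rw [← zpow_natCast, ← zpow_mul, ← zpow_natCast, ← zpow_mul, mul_comm]
    show dgc (pw (g ^ k) (en (nd 0))) ∈ _
    rw [e, dgc_pow]
    exact pow_mem h k
  · intro i t
    rw [pw_add, pw_add, dgc_mul, dgc_mul, ← pow_two, ← pow_succ]
    exact cube_all ⟨c, hc⟩ hn (dgc_mem _)

end Gen

/-! ### the orders -/

theorem VP.ext' {φ φ' : MulAut ↥(chevE6.group F)} {c c' : Fin chevE6.rank → Fˣ} {τ τ' : F ≃+* F}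
    {π π' : Equiv.Perm (Fin chevE6.rank)} (h : VP φ c τ π) (h' : VP φ' c' τ' π') (hc : c = c') (hτ : τ = τ')
    (hπ : π = π') : φ = φ' := by
  subst hc hτ hπ
  exact h.ext h'

theorem nine_not_dvd (P : ℕ) : ¬ 9 ∣ 1 + P + P ^ 2 := by
  intro h
  have h4 : ((1 + P + P ^ 2 : ℕ) : ZMod 9) = 0 := (ZMod.natCast_eq_zero_iff _ 9).2 h
  push_cast at h4
  have key : ∀ b : ZMod 9, 1 + b + b ^ 2 ≠ 0 := by decide
  exact key _ h4

/-- the cube of `H_s fld τ` -/
theorem cube_eq [Finite F] {τ : F ≃+* F} (h3 : orderOf τ = 3) : ∃ M : ℕ, ¬ 9 ∣ M ∧ ∀ s : Fˣ,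
    (dgc (pw s (en (nd 0))) * fld chevE6 τ) ^ 3 = dgc (pw (s ^ M) (en (nd 0))) := by
  obtain ⟨p, hp⟩ := CharP.exists F
  have hpp : Fact p.Prime := ⟨(CharP.char_is_prime F p)⟩
  obtain ⟨j, hj⟩ := Cfsg.Agent.BpExc.FamField.exists_pow_eq p τ
  refine ⟨1 + p ^ j + (p ^ j) ^ 2, nine_not_dvd _, fun s => ?_⟩
  have hv := (dgc_vp (pw s (en (nd 0)))).mul (fld_vp τ)
  have h2 := hv.mul hv
  have h4 := h2.mul hv
  have e : (dgc (pw s (en (nd 0))) * fld chevE6 τ) ^ 3 = (dgc (pw s (en (nd 0))) * fld chevE6 τ) *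
      (dgc (pw s (en (nd 0))) * fld chevE6 τ) * (dgc (pw s (en (nd 0))) * fld chevE6 τ) := by
    rw [pow_succ, pow_two]
  rw [e]
  have eτ : (1 * τ * (1 * τ) * (1 * τ) : F ≃+* F) = 1 := by
    have h5 := pow_orderOf_eq_one τ
    rw [h3, pow_succ, pow_two] at h5
    rw [one_mul, h5]
  have hτu : ∀ u : Fˣ, Units.mapEquiv (τ : F ≃+* F).toMulEquiv u = u ^ p ^ j := fun u => Units.ext (hj u)
  have hτu2 : ∀ u : Fˣ, Units.mapEquiv (τ * τ : F ≃+* F).toMulEquiv u = u ^ (p ^ j) ^ 2 := by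
    intro u
    apply Units.ext
    show τ (τ u) = _
    rw [hj, hj, ← pow_mul, Units.val_pow_eq_pow_val, pow_two]
  refine h4.ext' (dgc_vp _) (funext fun i => ?_) eτ rfl
  simp only [Equiv.Perm.coe_one, id_eq, mul_one, one_mul, map_one]
  rw [hτu, hτu2]
  show s ^ (en (nd 0) i) * (s ^ (en (nd 0) i)) ^ p ^ j * (s ^ (en (nd 0) i)) ^ (p ^ j) ^ 2 =
    (s ^ (1 + p ^ j + (p ^ j) ^ 2)) ^ (en (nd 0) i)
  have hen : en (nd 0) i = 0 ∨ en (nd 0) i = 1 := by
    unfold en; split <;> simp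
  rcases hen with h | h <;> rw [h]
  · simp
  · simp only [zpow_one]
    rw [pow_add, pow_add, pow_one]

theorem dvd_of_nine {a M m : ℕ} (hM : ¬ 9 ∣ M) (h : 3 ^ a ∣ M * m) : 3 ^ a ∣ 3 * m := by
  by_cases h3 : 3 ∣ M
  · obtain ⟨M', rfl⟩ := h3
    have h4 : ¬ 3 ∣ M' := fun h5 => hM (by obtain ⟨k, rfl⟩ := h5; exact ⟨k, by ring⟩)
    have h5 : Nat.Coprime (3 ^ a) M' := Nat.Coprime.pow_left _ ((Nat.Prime.coprime_iff_not_dvd Nat.prime_three).2 h4)
    rw [show 3 * M' * m = M' * (3 * m) by ring] at h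
    exact h5.dvd_of_dvd_mul_left h
  · have h5 : Nat.Coprime (3 ^ a) M := Nat.Coprime.pow_left _ ((Nat.Prime.coprime_iff_not_dvd Nat.prime_three).2 h3)
    exact (h5.dvd_of_dvd_mul_left h).mul_left _

theorem dvd_orderOf [Finite F] {τ : F ≃+* F} (h3 : orderOf τ = 3) {s : Fˣ} {a : ℕ} (ha : 3 ^ a ∣ orderOf s) :
    3 ^ a ∣ orderOf (dgc (pw s (en (nd 0))) * fld chevE6 τ) := by
  obtain ⟨M, hM, hcube⟩ := cube_eq h3
  set θ := dgc (pw s (en (nd 0))) * fld chevE6 τ with hθ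
  obtain ⟨m, hm⟩ : ∃ m, m = orderOf θ := ⟨_, rfl⟩
  have h1 : θ ^ m = 1 := by rw [hm, pow_orderOf_eq_one]
  have hv := (dgc_vp (pw s (en (nd 0)))).mul (fld_vp τ)
  obtain ⟨c', hc'⟩ := hv.pow m
  rw [← hθ, h1] at hc'
  have h2 := (hc'.unique VP.one).2.1
  rw [one_mul] at h2
  have h4 : 3 ∣ m := by rw [← h3]; exact orderOf_dvd_of_pow_eq_one h2
  obtain ⟨m', rfl⟩ := h4
  rw [pow_mul, hcube, ← dgc_pow] at h1
  have h5 := congrFun (dgc_eq_one h1) (nd 0)
  have h6 : (s ^ M) ^ m' = 1 := by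
    have e : (pw (s ^ M) (en (nd 0)) ^ m') (nd 0) = (s ^ M) ^ m' := by
      show ((s ^ M) ^ (en (nd 0) (nd 0))) ^ m' = _
      have : en (nd 0) (nd 0) = 1 := by decide
      rw [this, zpow_one]
    rw [← e, h5]
    rfl
  rw [← hm]
  rw [← pow_mul] at h6
  exact dvd_of_nine hM (ha.trans (orderOf_dvd_of_pow_eq_one h6))

/-- **The product of a field automorphism of order three with a diagonal automorphism.** -/
theorem not_diag_fld [Finite F] {A : Subgroup (MulAut ↥(chevE6.group F))} (hA : Inn ↥(chevE6.group F) ≤ A)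
    (hord : ∀ a ∈ A, ∃ y : ↥(chevE6.group F), orderOf y = orderOf a) (h3q : 3 ∣ Nat.card F - 1)
    {τ : F ≃+* F} (h3 : orderOf τ = 3) {η : MulAut ↥(chevE6.group F)} (hη : η ∈ Dg F) (hn : η ∉ Inn ↥(chevE6.group F))
    (hmem : η * fld chevE6 τ ∈ A) : False := by
  classical
  have : Fintype F := Fintype.ofFinite F
  have hnor : (Inn ↥(chevE6.group F)).Normal := inferInstance
  have hqq := Cfsg.Agent.H967.CopMat.card_Fx τ
  rw [h3] at hqq
  have ha2 : 2 ≤ Nat.card ↥(Cfsg.Agent.H967.CopMat.Fx τ) := Finite.one_lt_card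
  have hq2 : 2 ≤ Nat.card F := Finite.one_lt_card
  -- a generator
  obtain ⟨g, hg⟩ := IsCyclic.exists_generator (α := Fˣ)
  have hog : orderOf g = Nat.card F - 1 := by
    rw [orderOf_eq_card_of_forall_mem_zpowers hg, Nat.card_units]
  have hgn := dgc_single_not_inn hη hn hg
  obtain ⟨i, hi⟩ := exists_zpow (dgc_mem _) hgn hη
  set G0 : MulAut ↥(chevE6.group F) := dgc (pw g (en (nd 0))) with hG0
  have hcube : G0 ^ 3 ∈ Inn ↥(chevE6.group F) := cube_all hη hn (dgc_mem _)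
  have h3z : ∀ k : ℤ, G0 ^ (3 * k) ∈ Inn ↥(chevE6.group F) := fun k => by
    rw [zpow_mul]
    exact zpow_mem (by exact_mod_cast hcube) k
  have hi3 : ¬ (3 : ℤ) ∣ i := by
    rintro ⟨k, rfl⟩
    apply hn
    have := mul_mem (h3z k) hi
    rwa [mul_inv_cancel_left] at this
  -- a generator `s` with `H_s = η` modulo the inner automorphisms
  obtain ⟨s, hs1, hs2⟩ : ∃ s : Fˣ, orderOf s = Nat.card F - 1 ∧
      (dgc (pw s (en (nd 0))))⁻¹ * η ∈ Inn ↥(chevE6.group F) := by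
    have h5 : i % 3 = 1 ∨ i % 3 = 2 := by omega
    rcases h5 with h5 | h5
    · refine ⟨g, hog, ?_⟩
      obtain ⟨k, hk⟩ : ∃ k, i = 1 + 3 * k := ⟨i / 3, by omega⟩
      have e : G0⁻¹ * η = G0 ^ (3 * k) * ((G0 ^ i)⁻¹ * η) := by
        rw [hk, zpow_add, zpow_one, mul_inv_rev]
        group
      rw [← hG0, e]
      exact mul_mem (h3z k) hi
    · refine ⟨g⁻¹, by rw [orderOf_inv, hog], ?_⟩
      obtain ⟨k, hk⟩ : ∃ k, i = -1 + 3 * k := ⟨(i + 1) / 3, by omega⟩
      have e1 : dgc (pw g⁻¹ (en (nd 0))) = G0⁻¹ := by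
        rw [hG0, ← dgc_inv]
        congr 1
        funext j
        exact inv_zpow _ _
      have e : (G0⁻¹)⁻¹ * η = G0 ^ (3 * k) * ((G0 ^ i)⁻¹ * η) := by
        rw [hk, zpow_add, zpow_neg_one, mul_inv_rev]
        group
      rw [e1, e]
      exact mul_mem (h3z k) hi
  set θ : MulAut ↥(chevE6.group F) := dgc (pw s (en (nd 0))) * fld chevE6 τ with hθ
  have hθA : θ ∈ A := by
    have e : θ = ((dgc (pw s (en (nd 0)))) * η⁻¹) * (η * fld chevE6 τ) := by rw [hθ]; group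
    rw [e]
    refine mul_mem (hA ?_) hmem
    have h6 := hnor.conj_mem _ (inv_mem hs2) (dgc (pw s (en (nd 0))))
    have e2 : dgc (pw s (en (nd 0))) * ((dgc (pw s (en (nd 0))))⁻¹ * η)⁻¹ * (dgc (pw s (en (nd 0))))⁻¹ =
      dgc (pw s (en (nd 0))) * η⁻¹ := by group
    rwa [e2] at h6
  -- the 3-part of `q - 1`
  obtain ⟨a, w, hw3, haw⟩ := Nat.exists_eq_pow_mul_and_not_dvd (n := Nat.card F - 1) (by omega) 3 (by norm_num)
  have haθ : 3 ^ a ∣ orderOf θ := dvd_orderOf h3 (by rw [hs1, haw]; exact dvd_mul_right _ _)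
  obtain ⟨v, hv⟩ := haθ
  have hθ0 : orderOf θ ≠ 0 := (orderOf_pos θ).ne'
  have hv0 : v ≠ 0 := by rintro rfl; exact hθ0 (by rw [hv, mul_zero])
  have hoθ : orderOf (θ ^ v) = 3 ^ a := by
    rw [orderOf_pow_of_dvd hv0 (hv ▸ dvd_mul_left v _), hv, Nat.mul_div_cancel _ (Nat.pos_of_ne_zero hv0)]
  -- the element of order `r`
  obtain ⟨r, hr, hr2, hrd⟩ := exists_prime_eight ha2
  have hr3 : r ≠ 3 := by
    rintro rfl
    exact three_not_dvd_eight _ hrd
  obtain ⟨x, hx, hfx, hdx⟩ := Cfsg.Agent.H351.E6Out.D5.exists_r8 h3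
    (by rw [← Nat.card_eq_fintype_card]; exact hqq) hr hr2 hrd
  have hθx : θ x = x := by
    rw [hθ, MulAut.mul_apply, hfx]
    refine hdx _ _ (dgc_vp _) fun i hi => ?_
    have : en (nd 0) i = 0 := by
      unfold en
      rw [if_neg]
      rintro rfl
      exact hi rfl
    show s ^ (en (nd 0) i) = 1
    rw [this, zpow_zero]
  have hcomm : Commute (MulAut.conj x) θ := by
    apply MulEquiv.ext
    intro y
    show MulAut.conj x (θ y) = θ (MulAut.conj x y)
    rw [MulAut.conj_apply, MulAut.conj_apply, map_mul, map_mul, map_inv, hθx]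
  have ho : orderOf (MulAut.conj x) = r := by
    rw [← hx]
    exact orderOf_injective _ (conj_injective inList_E6) x
  have hfin : orderOf (MulAut.conj x * θ ^ v) = r * 3 ^ a := by
    rw [(hcomm.pow_right v).orderOf_mul_eq_mul_orderOf_of_coprime (by
      rw [ho, hoθ]
      exact Nat.Coprime.pow_right _ ((Nat.coprime_primes hr Nat.prime_three).2 hr3)), ho, hoθ]
  obtain ⟨y, hy⟩ := hord _ (mul_mem (hA ⟨x, rfl⟩) (pow_mem hθA v))
  have hz : ((Nat.card F - 1 : ℕ) : ℤ) = (Nat.card F : ℤ) - 1 := by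
    rw [Nat.cast_sub (by omega)]
    rfl
  refine Cfsg.Agent.H129.ExactD.no_E6_8 (F := F) (q := Nat.card F) Nat.card_eq_fintype_card.symm
    (by rw [← hz]; exact_mod_cast h3q) (a := a) (fun hd => ?_) hr hr2 (by rw [hqq]; exact dvd_eight_cube hrd) y
    (by rw [hy, hfin, mul_comm])
  rw [← hz] at hd
  have hd' : 3 ^ (a + 1) ∣ Nat.card F - 1 := by exact_mod_cast hd
  rw [haw, pow_succ] at hd'
  exact hw3 (Nat.dvd_of_mul_dvd_mul_left (by positivity) hd')

end Cfsg.Agent.H367.E6Out
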