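import Cfsg.Agent.H523.FpfChev
import Cfsg.Agent.CpAut.RgdUntw

/-!
# Outer automorphisms of `E₆(q)`: reduction to the standard cosets (helper367, for S3480)

* `VP φ c τ π` : `φ (x_{±i}(t)) = x_{±π i}(c_i^{±1} τ(t))`;
* `gam` : the graph automorphism; `fld` : the field automorphisms (`CpAut.RgdUntw`);
* `Cos A ρ` : up to conjugation `A` contains the coset `Inn · ρ`;
* `red` : a subgroup `A` of `Aut` containing `Inn` properly satisfies one of five alternatives.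
-/

set_option autoImplicit false
set_option linter.unusedSectionVars false

namespace Cfsg.Agent.H367.E6Out

open scoped Pointwise
open Cfsg Cfsg.Lie Cfsg.Agent.ChevalleyStructure Cfsg.Agent.ChevalleyStructure.Elts
  Cfsg.Agent.ChevalleyStructure.NConj Cfsg.Agent.ChevalleyStructure.BNChev Cfsg.Agent.S1042
  Cfsg.Agent.Schreier.ChevLocal
  Cfsg.Agent.H70.AutFix Cfsg.Agent.H70.ChevTab Cfsg.Agent.H70.ChevFix
  Cfsg.Agent.H70.ChevField Cfsg.Agent.H70.OutCount Cfsg.Agent.H70.OutE Cfsg.Agent.H523.Chev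

open Cfsg.Agent.CpAut.RgdUntw (fld fld_coe fld_mul fld_one fld_pow)

/-- the symmetry of the diagram -/
abbrev fl : Equiv.Perm (Fin chevE6.rank) := Cfsg.Agent.H70.OutE.flip

universe u

variable {F : Type u} [Field F]

/-- the values of an automorphism on the fundamental root elements -/
def VP (φ : MulAut ↥(chevE6.group F)) (c : Fin chevE6.rank → Fˣ) (τ : F ≃+* F)
    (π : Equiv.Perm (Fin chevE6.rank)) : Prop :=
  (∀ (i : Fin chevE6.rank) (t : F), φ (xe inList_E6 (chevE6.simple i) t) =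
    xe inList_E6 (chevE6.simple (π i)) ((c i : F) * τ t)) ∧
  ∀ (i : Fin chevE6.rank) (t : F), φ (xe inList_E6 (chevE6.neg (chevE6.simple i)) t) =
    xe inList_E6 (chevE6.neg (chevE6.simple (π i))) ((c i : F)⁻¹ * τ t)

theorem VP.mul {φ φ' : MulAut ↥(chevE6.group F)} {c c' : Fin chevE6.rank → Fˣ} {τ τ' : F ≃+* F}
    {π π' : Equiv.Perm (Fin chevE6.rank)} (h : VP φ c τ π) (h' : VP φ' c' τ' π') :
    VP (φ * φ') (fun i => c (π' i) * Units.mapEquiv τ.toMulEquiv (c' i)) (τ * τ') (π * π') := by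
  have e : ∀ i, ((Units.mapEquiv τ.toMulEquiv (c' i) : Fˣ) : F) = τ (c' i) := fun i => rfl
  constructor
  · intro i t
    rw [MulAut.mul_apply, h'.1, h.1, map_mul, Units.val_mul, e, mul_assoc]
    rfl
  · intro i t
    rw [MulAut.mul_apply, h'.2, h.2, map_mul, map_inv₀, Units.val_mul, e, mul_inv, mul_assoc]
    rfl

theorem VP.ext {φ φ' : MulAut ↥(chevE6.group F)} {c : Fin chevE6.rank → Fˣ} {τ : F ≃+* F}
    {π : Equiv.Perm (Fin chevE6.rank)} (h : VP φ c τ π) (h' : VP φ' c τ π) : φ = φ' :=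
  ext_values inList_E6 (fun i t => by rw [h.1, h'.1]) (fun i t => by rw [h.2, h'.2])

theorem VP.one : VP (1 : MulAut ↥(chevE6.group F)) (fun _ => 1) 1 1 :=
  ⟨fun i t => by simp, fun i t => by simp⟩

theorem VP.pow {φ : MulAut ↥(chevE6.group F)} {c : Fin chevE6.rank → Fˣ} {τ : F ≃+* F}
    {π : Equiv.Perm (Fin chevE6.rank)} (h : VP φ c τ π) (n : ℕ) : ∃ c', VP (φ ^ n) c' (τ ^ n) (π ^ n) := by
  induction n with
  | zero => exact ⟨_, by rw [pow_zero, pow_zero, pow_zero]; exact VP.one⟩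
  | succ n ih =>
    obtain ⟨c', h'⟩ := ih
    rw [pow_succ, pow_succ, pow_succ]
    exact ⟨_, h'.mul h⟩

theorem vp_iff_val {φ : MulAut ↥(chevE6.group F)} {c : Fin chevE6.rank → Fˣ} {τ : F ≃+* F} :
    VP φ c τ 1 ↔ Val inList_E6 φ c τ := Iff.rfl

theorem VP.perm {φ : MulAut ↥(chevE6.group F)} {c : Fin chevE6.rank → Fˣ} {τ : F ≃+* F}
    {π : Equiv.Perm (Fin chevE6.rank)} (h : VP φ c τ π) : Perm chevE6 F φ π := by
  have key : ∀ (r s : ℕ) (d : F), d ≠ 0 → (∀ t : F, φ (xe inList_E6 r t) = xe inList_E6 s (d * τ t)) →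
      φ • XX chevE6 F r = XX chevE6 F s := by
    intro r s d hd h
    ext g
    rw [Subgroup.mem_pointwise_smul_iff_inv_smul_mem, mem_XX inList_E6, mem_XX inList_E6]
    constructor
    · rintro ⟨t, ht⟩
      refine ⟨d * τ t, ?_⟩
      rw [← h t, ← ht]
      exact (smul_inv_smul φ g).symm
    · rintro ⟨t, ht⟩
      refine ⟨τ.symm (d⁻¹ * t), ?_⟩
      have h1 := h (τ.symm (d⁻¹ * t))
      rw [RingEquiv.apply_symm_apply, mul_inv_cancel_left₀ hd] at h1
      rw [ht, ← h1]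
      exact inv_smul_smul φ _
  exact ⟨fun i => key _ _ _ (c i).ne_zero (h.1 i), fun i => key _ _ _ (inv_ne_zero (c i).ne_zero) (h.2 i)⟩

theorem VP.unique {φ : MulAut ↥(chevE6.group F)} {c c' : Fin chevE6.rank → Fˣ} {τ τ' : F ≃+* F}
    {π π' : Equiv.Perm (Fin chevE6.rank)} (h : VP φ c τ π) (h' : VP φ c' τ' π') : c = c' ∧ τ = τ' ∧ π = π' := by
  have hπ : π = π' := Perm.unique inList_E6 h.perm h'.perm
  subst hπ
  have hrank : 0 < chevE6.rank := (RootComb.good_of_mem inList_E6).rank_pos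
  have h1 : ∀ (i : Fin chevE6.rank) (t : F), (c i : F) * τ t = (c' i : F) * τ' t := by
    intro i t
    apply xe_inj inList_E6 (simple_lt inList_E6 (π i).2)
    rw [← h.1 i t, ← h'.1 i t]
  have h2 : ∀ i, (c i : F) = c' i := by
    intro i
    have := h1 i 1
    rwa [map_one, map_one, mul_one, mul_one] at this
  refine ⟨funext fun i => Units.ext (h2 i), ?_, rfl⟩
  ext t
  have h3 := h1 ⟨0, hrank⟩ t
  rw [h2] at h3
  exact mul_left_cancel₀ (c' ⟨0, hrank⟩).ne_zero h3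

/-! ### graph and field automorphisms -/

theorem exists_gam (F : Type u) [Field F] : ∃ g : MulAut ↥(chevE6.group F), VP g (fun _ => 1) 1 fl := by
  obtain ⟨α, hα⟩ := S1081.result (F := F) (chevE6, [5, 1, 4, 3, 2, 0]) (by simp)
  refine ⟨α, ?_, ?_⟩
  · intro i t
    apply Subtype.ext
    apply Units.ext
    rw [flip_val i]
    have := (hα (xe inList_E6 (chevE6.simple i) t) i t i.2).1 rfl
    simpa using this
  · intro i t
    apply Subtype.ext
    apply Units.ext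
    rw [flip_val i]
    have := (hα (xe inList_E6 (chevE6.neg (chevE6.simple i)) t) i t i.2).2 rfl
    simpa using this

/-- the graph automorphism -/
noncomputable def gam (F : Type u) [Field F] : MulAut ↥(chevE6.group F) := (exists_gam F).choose

theorem gam_vp : VP (gam F) (fun _ => 1) 1 fl := (exists_gam F).choose_spec

theorem fl_fl : fl * fl = 1 := by decide

theorem gam_gam : gam F * gam F = 1 := by
  have h := (gam_vp (F := F)).mul gam_vp
  rw [fl_fl] at h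
  refine VP.ext (h := ?_) VP.one
  have e : (fun i => (1 : Fˣ) * Units.mapEquiv ((1 : F ≃+* F).toMulEquiv) 1) = (fun _ : Fin chevE6.rank => (1 : Fˣ)) := by
    funext i
    simp
  rw [e] at h
  exact h

theorem fld_vp (τ : F ≃+* F) : VP (fld chevE6 τ) (fun _ => 1) τ 1 := by
  have key : ∀ (r : ℕ) (t : F), fld chevE6 τ (xe inList_E6 r t) = xe inList_E6 r (τ t) := by
    intro r t
    apply Subtype.ext
    apply Units.ext
    rw [fld_coe]
    exact Cfsg.Agent.ChevStructure.FieldMap.x_map chevE6 (τ : F →+* F) r t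
  exact ⟨fun i t => by rw [key]; simp, fun i t => by rw [key]; simp⟩

theorem VP.inv {φ : MulAut ↥(chevE6.group F)} {c : Fin chevE6.rank → Fˣ} {τ : F ≃+* F}
    {π : Equiv.Perm (Fin chevE6.rank)} (h : VP φ c τ π) : ∃ c', VP φ⁻¹ c' τ⁻¹ π⁻¹ := by
  refine ⟨fun i => (Units.mapEquiv (τ⁻¹ : F ≃+* F).toMulEquiv (c (π⁻¹ i)))⁻¹, fun i t => ?_, fun i t => ?_⟩
  · have h1 := h.1 (π⁻¹ i) (τ⁻¹ ((c (π⁻¹ i) : F)⁻¹ * t))
    rw [show τ (τ⁻¹ ((c (π⁻¹ i) : F)⁻¹ * t)) = (c (π⁻¹ i) : F)⁻¹ * t from τ.apply_symm_apply _,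
      mul_inv_cancel_left₀ (c (π⁻¹ i)).ne_zero, show π (π⁻¹ i) = i from π.apply_symm_apply i] at h1
    rw [← h1, MulAut.inv_apply_self, map_mul, map_inv₀, Units.val_inv_eq_inv_val]
    rfl
  · have h1 := h.2 (π⁻¹ i) (τ⁻¹ ((c (π⁻¹ i) : F) * t))
    rw [show τ (τ⁻¹ ((c (π⁻¹ i) : F) * t)) = (c (π⁻¹ i) : F) * t from τ.apply_symm_apply _,
      inv_mul_cancel_left₀ (c (π⁻¹ i)).ne_zero, show π (π⁻¹ i) = i from π.apply_symm_apply i] at h1
    rw [← h1, MulAut.inv_apply_self, map_mul, Units.val_inv_eq_inv_val, inv_inv]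
    rfl

/-! ### diagonal automorphisms -/

/-- the group of diagonal automorphisms -/
def Dg (F : Type u) [Field F] : Subgroup (MulAut ↥(chevE6.group F)) where
  carrier := {φ | ∃ c, VP φ c 1 1}
  mul_mem' := by
    rintro a b ⟨c, h⟩ ⟨c', h'⟩
    exact ⟨_, by simpa using h.mul h'⟩
  one_mem' := ⟨_, VP.one⟩
  inv_mem' := by
    rintro a ⟨c, h⟩
    obtain ⟨c', h'⟩ := h.inv
    exact ⟨c', by simpa using h'⟩

theorem mem_Dg {φ : MulAut ↥(chevE6.group F)} : φ ∈ Dg F ↔ ∃ c, VP φ c 1 1 := Iff.rfl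

theorem exists_vp (c : Fin chevE6.rank → Fˣ) (τ : F ≃+* F) : ∃ φ : MulAut ↥(chevE6.group F), VP φ c τ 1 :=
  exists_val inList_E6 c τ

theorem conj_mem_Dg {h : ↥(chevE6.group F)} (hh : h ∈ HH chevE6 F) : MulAut.conj h ∈ Dg F := by
  obtain ⟨c, hc⟩ := exists_val_conj (hD := inList_E6) hh
  exact ⟨c, hc⟩

theorem card_Dg [Finite F] : Nat.card ↥(Dg F) = (Nat.card F - 1) ^ chevE6.rank := by
  choose f hf using fun c : Fin chevE6.rank → Fˣ => exists_vp c (1 : F ≃+* F)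
  let g : (Fin chevE6.rank → Fˣ) → ↥(Dg F) := fun c => ⟨f c, c, hf c⟩
  have hg : Function.Bijective g := by
    constructor
    · intro a b hab
      have h1 : f a = f b := congrArg Subtype.val hab
      have h2 := hf a
      rw [h1] at h2
      exact (h2.unique (hf b)).1
    · rintro ⟨φ, c, hc⟩
      exact ⟨c, Subtype.ext ((hf c).ext hc)⟩
  rw [← Nat.card_congr (Equiv.ofBijective g hg), Nat.card_fun, Nat.card_units, Nat.card_fin]

theorem card_inn_Dg [Finite F] :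
    Nat.card ((Inn ↥(chevE6.group F)).subgroupOf (Dg F)) = Nat.card (chevE6.diagonalSubgroup F) := by
  have h0 : Nat.card (chevE6.diagonalSubgroup F) = Nat.card (HH chevE6 F) :=
    (Nat.card_congr (Subgroup.subgroupOfEquivOfLe (diagonal_le_group inList_E6 F)).toEquiv).symm
  rw [h0]
  symm
  let g : HH chevE6 F → (Inn ↥(chevE6.group F)).subgroupOf (Dg F) := fun h =>
    ⟨⟨MulAut.conj (h : ↥(chevE6.group F)), conj_mem_Dg h.2⟩, ⟨h, rfl⟩⟩
  refine Nat.card_congr (Equiv.ofBijective g ⟨?_, ?_⟩)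
  · intro a b hab
    have h1 : MulAut.conj (a : ↥(chevE6.group F)) = MulAut.conj (b : ↥(chevE6.group F)) :=
      congrArg (fun x : (Inn ↥(chevE6.group F)).subgroupOf (Dg F) =>
        ((x : ↥(Dg F)) : MulAut ↥(chevE6.group F))) hab
    exact Subtype.ext (conj_injective inList_E6 h1)
  · rintro ⟨⟨φ, c, hφ⟩, ⟨x, hx⟩⟩
    have hx' : MulAut.conj x = φ := hx
    subst hx'
    have h1 : x ∈ HH chevE6 F := by
      rw [← normalizer_inf inList_E6, Subgroup.mem_inf, mem_normalizer_iff_smul, mem_normalizer_iff_smul]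
      exact ⟨Perm.smul_UU inList_E6 hφ.perm, Perm.smul_VN inList_E6 hφ.perm⟩
    exact ⟨⟨x, h1⟩, rfl⟩

theorem index_Dg [Finite F] : ((Inn ↥(chevE6.group F)).subgroupOf (Dg F)).index = Nat.gcd 3 (Nat.card F - 1) := by
  have hF : Fintype F := Fintype.ofFinite F
  have h1 := Subgroup.card_mul_index ((Inn ↥(chevE6.group F)).subgroupOf (Dg F))
  rw [card_inn_Dg, card_Dg] at h1
  have h2 := S1035.result (F := F) (q := Nat.card F) Nat.card_eq_fintype_card.symm
    (chevE6, Nat.gcd 3 (Nat.card F - 1)) (by simp)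
  have h3 : Nat.gcd 3 (Nat.card F - 1) * Nat.card (chevE6.diagonalSubgroup F) = (Nat.card F - 1) ^ chevE6.rank := h2
  rw [← h3, mul_comm] at h1
  exact Nat.eq_of_mul_eq_mul_right Nat.card_pos h1

section Eta

variable [Finite F] {η : MulAut ↥(chevE6.group F)} (hη : η ∈ Dg F) (hn : η ∉ Inn ↥(chevE6.group F))

include hη hn

theorem three_dvd : 3 ∣ Nat.card F - 1 := by
  by_contra h
  have h1 : Nat.gcd 3 (Nat.card F - 1) = 1 := (Nat.Prime.coprime_iff_not_dvd Nat.prime_three).2 h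
  have h2 := index_Dg (F := F)
  rw [h1, Subgroup.index_eq_one] at h2
  apply hn
  have h3 : (⟨η, hη⟩ : ↥(Dg F)) ∈ (Inn ↥(chevE6.group F)).subgroupOf (Dg F) := by rw [h2]; trivial
  exact h3

theorem index_three : ((Inn ↥(chevE6.group F)).subgroupOf (Dg F)).index = 3 := by
  rw [index_Dg]
  exact Nat.gcd_eq_left (three_dvd hη hn)

theorem cube_mem : η ^ 3 ∈ Inn ↥(chevE6.group F) := by
  have h1 := Subgroup.pow_index_mem ((Inn ↥(chevE6.group F)).subgroupOf (Dg F)) (⟨η, hη⟩ : ↥(Dg F))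
  rw [index_three hη hn] at h1
  exact h1

theorem exists_zpow {ζ : MulAut ↥(chevE6.group F)} (hζ : ζ ∈ Dg F) :
    ∃ i : ℤ, (η ^ i)⁻¹ * ζ ∈ Inn ↥(chevE6.group F) := by
  have hpr : Fact (Nat.Prime 3) := ⟨Nat.prime_three⟩
  set N := (Inn ↥(chevE6.group F)).subgroupOf (Dg F) with hN
  have hcard : Nat.card (↥(Dg F) ⧸ N) = 3 := by
    rw [← Subgroup.index_eq_card]
    exact index_three hη hn
  have hne : (QuotientGroup.mk (⟨η, hη⟩ : ↥(Dg F)) : ↥(Dg F) ⧸ N) ≠ 1 := by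
    rw [Ne, QuotientGroup.eq_one_iff]
    exact hn
  have h1 := mem_zpowers_of_prime_card (g := (QuotientGroup.mk (⟨η, hη⟩ : ↥(Dg F)) : ↥(Dg F) ⧸ N))
    (g' := QuotientGroup.mk (⟨ζ, hζ⟩ : ↥(Dg F))) hcard hne
  obtain ⟨i, hi⟩ := h1
  refine ⟨i, ?_⟩
  have h2 : (QuotientGroup.mk ((⟨η, hη⟩ : ↥(Dg F)) ^ i) : ↥(Dg F) ⧸ N) = QuotientGroup.mk (⟨ζ, hζ⟩ : ↥(Dg F)) := hi
  rw [QuotientGroup.eq] at h2
  exact h2

/-- all diagonal automorphisms -/
theorem Dg_le {A : Subgroup (MulAut ↥(chevE6.group F))} (hA : Inn ↥(chevE6.group F) ≤ A) (hηA : η ∈ A) :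
    Dg F ≤ A := by
  intro ζ hζ
  obtain ⟨i, hi⟩ := exists_zpow hη hn hζ
  have h1 : ζ = η ^ i * ((η ^ i)⁻¹ * ζ) := by group
  rw [h1]
  exact mul_mem (zpow_mem hηA i) (hA hi)

end Eta

/-! ### all automorphisms -/

theorem exists_vp_of_perm {φ : MulAut ↥(chevE6.group F)} {π : Equiv.Perm (Fin chevE6.rank)}
    (h : Perm chevE6 F φ π) : (π = 1 ∨ π = fl) ∧ ∃ c τ, VP φ c τ π := by
  have hπ : π = 1 ∨ π = fl := by
    have h1 := Cfsg.Agent.H70.DiagSym.isDiagramSymmetry inList_E6 h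
    have h2 := Cfsg.Agent.H79.DiagSymm.imgs_E6 h1
    simp only [List.mem_cons, List.not_mem_nil, or_false] at h2
    rcases h2 with h2 | h2
    · left
      exact Cfsg.Agent.H79.DiagSymm.eq_of_imgs (h2.trans (by rw [Cfsg.Agent.H79.DiagSymm.imgs_one]; rfl))
    · right
      exact Cfsg.Agent.H79.DiagSymm.eq_of_imgs (h2.trans imgs_flip.symm)
  refine ⟨hπ, ?_⟩
  rcases hπ with rfl | rfl
  · obtain ⟨c, τ, hc⟩ := exists_val_of_perm (hD := inList_E6) h
    exact ⟨c, τ, hc⟩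
  · have h1 : Perm chevE6 F (φ * gam F) 1 := by
      have := h.mul (gam_vp (F := F)).perm
      rwa [fl_fl] at this
    obtain ⟨c, τ, hc⟩ := exists_val_of_perm (hD := inList_E6) h1
    have h2 := VP.mul (vp_iff_val.2 hc) (gam_vp (F := F))
    rw [mul_assoc, gam_gam, mul_one, mul_one, one_mul] at h2
    exact ⟨_, _, h2⟩

end Cfsg.Agent.H367.E6Out
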