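import Cfsg.Agent.H367.E6Out.Fields
import Cfsg.Agent.LieRecognition.FieldSemilinear

/-!
# The product of the graph automorphism with the field involution (helper367, for S3480)

* `apply_two` : an automorphism of order two of a finite field is the `q₀`-th power;
* `fld_gam_tw` : `fld τ * gam` centralises `²E₆(q₀)`;
* `not_gam_fld`.
-/

set_option autoImplicit false
set_option linter.unusedSectionVars false

namespace Cfsg.Agent.H367.E6Out

open scoped Pointwise
open Cfsg Cfsg.Lie Cfsg.Agent.ChevalleyStructure Cfsg.Agent.ChevalleyStructure.Elts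
  Cfsg.Agent.Schreier.ChevLocal
  Cfsg.Agent.H70.ChevTab Cfsg.Agent.H70.ChevFix
  Cfsg.Agent.H70.ChevField Cfsg.Agent.H70.OutCount Cfsg.Agent.H70.OutE Cfsg.Agent.H523.Chev
open Cfsg.Agent.CpAut.RgdUntw (fld fld_coe fld_mul fld_one fld_pow)
open Cfsg.Agent.H967.CopMat (Fx mem_Fx card_Fx)
open Cfsg.Agent.H414.E6

universe u

/-- the elements of order two of a cyclic group -/
theorem eq_of_two {C : Type*} [Group C] [Finite C] [IsCyclic C] {a b : C} (ha : orderOf a = 2) (hb : orderOf b = 2) :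
    a = b := by
  classical
  have : Fintype C := Fintype.ofFinite C
  by_contra hne
  have h1 := IsCyclic.card_pow_eq_one_le (α := C) (n := 2) two_pos
  have ha2 : a ^ 2 = 1 := by rw [← ha, pow_orderOf_eq_one]
  have hb2 : b ^ 2 = 1 := by rw [← hb, pow_orderOf_eq_one]
  have ha1 : a ≠ 1 := by rintro rfl; rw [orderOf_one] at ha; omega
  have hb1 : b ≠ 1 := by rintro rfl; rw [orderOf_one] at hb; omega
  have h2 : ({1, a, b} : Finset C) ⊆ Finset.univ.filter (fun x => x ^ 2 = 1) := by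
    intro x hx
    simp only [Finset.mem_insert, Finset.mem_singleton] at hx
    rcases hx with rfl | rfl | rfl <;> simp [ha2, hb2]
  have h3 := Finset.card_le_card h2
  rw [Finset.card_insert_of_notMem (by simp [ha1.symm, hb1.symm]), Finset.card_insert_of_notMem (by simp [hne]),
    Finset.card_singleton] at h3
  omega

variable {F : Type u} [Field F]

/-- an automorphism of order two is the `q₀`-th power -/
theorem apply_two [Finite F] {τ : F ≃+* F} (h : orderOf τ = 2) (t : F) : τ t = t ^ Nat.card ↥(Fx τ) := by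
  have : Fintype F := Fintype.ofFinite F
  have : Fintype ↥(Fx τ) := Fintype.ofFinite _
  have hcyc : IsCyclic (F ≃+* F) := LieRecognition.FieldSemilinear.isCyclic_ringAut F
  have hcard := card_Fx τ
  rw [h] at hcard
  obtain ⟨p, hp⟩ := CharP.exists F
  have hpp : Fact p.Prime := ⟨(CharP.char_is_prime F p)⟩
  have hpx : CharP ↥(Fx τ) p := inferInstance
  obtain ⟨m, -, hm⟩ := FiniteField.card ↥(Fx τ) p
  have hm' : Nat.card ↥(Fx τ) = p ^ (m : ℕ) := by rw [Nat.card_eq_fintype_card, hm]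
  let σ : F ≃+* F := iterateFrobeniusEquiv F p m
  have hσ : ∀ s : F, σ s = s ^ Nat.card ↥(Fx τ) := by
    intro s
    rw [hm']
    exact iterateFrobeniusEquiv_def F p m s
  have hσ2 : orderOf σ = 2 := by
    have := Fact.mk Nat.prime_two
    refine orderOf_eq_prime ?_ ?_
    · ext s
      rw [pow_two]
      show σ (σ s) = s
      rw [hσ, hσ, ← pow_mul, ← pow_two, ← hcard, Nat.card_eq_fintype_card]
      exact FiniteField.pow_card s
    · intro h1
      obtain ⟨g, hg⟩ := IsCyclic.exists_generator (α := Fˣ)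
      have hog : orderOf g = Nat.card Fˣ := orderOf_eq_card_of_forall_mem_zpowers hg
      have h2 : g ^ Nat.card ↥(Fx τ) = g := by
        apply Units.ext
        have := hσ g
        rw [h1] at this
        rw [Units.val_pow_eq_pow_val, ← this]
        rfl
      have h0 : 2 ≤ Nat.card ↥(Fx τ) := Finite.one_lt_card
      have h3 : g ^ (Nat.card ↥(Fx τ) - 1) = 1 := by
        have : g ^ (Nat.card ↥(Fx τ) - 1) * g = 1 * g := by
          rw [← pow_succ, Nat.sub_add_cancel (by omega), h2, one_mul]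
        exact mul_right_cancel this
      have h4 := Nat.le_of_dvd (by omega) (orderOf_dvd_of_pow_eq_one h3)
      rw [hog, Nat.card_units, hcard] at h4
      have h5 : Nat.card ↥(Fx τ) * 2 ≤ Nat.card ↥(Fx τ) ^ 2 := by
        rw [pow_two]; exact Nat.mul_le_mul_left _ h0
      omega
  have hfin : Finite (F ≃+* F) := Finite.of_injective (fun f : F ≃+* F => (f : F → F)) DFunLike.coe_injective
  have hτσ : τ = σ := eq_of_two h hσ2
  rw [← hσ t, ← hτσ]

theorem fld_xe (τ : F ≃+* F) (r : ℕ) (t : F) : fld chevE6 τ (xe inList_E6 r t) = xe inList_E6 r (τ t) := by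
  apply Subtype.ext
  apply Units.ext
  rw [fld_coe]
  exact Cfsg.Agent.ChevStructure.FieldMap.x_map chevE6 (τ : F →+* F) r t

theorem fg_xe (τ : F ≃+* F) {a b : ℕ} (h : (a, b) ∈ gt) (t : F) :
    (fld chevE6 τ * gam F) (xe inList_E6 a t) = xe inList_E6 b (τ t) := by
  rw [MulAut.mul_apply, gam_gt h, fld_xe]

/-- **`fld τ * gam` centralises `²E₆(q₀)`.** -/
theorem fld_gam_tw [Finite F] {τ : F ≃+* F} (h : orderOf τ = 2) (x : ↥(chevE6.group F))
    (hx : (x : GL chevE6.Idx F) ∈ twistedE6 F (Nat.card ↥(Fx τ))) : (fld chevE6 τ * gam F) x = x := by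
  let S : Subgroup ↥(chevE6.group F) := (fld chevE6 τ * gam F : MulAut ↥(chevE6.group F)).toMonoidHom.eqLocus
    (MonoidHom.id _)
  have hτ2 : ∀ t, τ (τ t) = t := by
    intro t
    have := pow_orderOf_eq_one τ
    rw [h, pow_two] at this
    exact congrArg (fun f : F ≃+* F => f t) this
  have key : twistedE6 F (Nat.card ↥(Fx τ)) ≤ S.map (chevE6.group F).subtype := by
    rw [TwE6Basic.twisted_le_iff]
    refine ⟨fun t ht r hr => ?_, fun t rs hrs => ?_⟩
    · have hτt : τ t = t := by rw [apply_two h, ht]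
      refine ⟨xe inList_E6 r t, ?_, rfl⟩
      show (fld chevE6 τ * gam F) (xe inList_E6 r t) = xe inList_E6 r t
      have hr' : (r, r) ∈ gt := by
        revert hr
        simp only [List.mem_cons, List.not_mem_nil, or_false]
        rintro (rfl | rfl | rfl | rfl) <;> decide
      rw [fg_xe τ hr', hτt]
    · refine ⟨xe inList_E6 rs.1 t * xe inList_E6 rs.2 (τ t), ?_, ?_⟩
      · show (fld chevE6 τ * gam F) (xe inList_E6 rs.1 t * xe inList_E6 rs.2 (τ t)) =
          xe inList_E6 rs.1 t * xe inList_E6 rs.2 (τ t)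
        have h1 : (rs.1, rs.2) ∈ gt ∧ (rs.2, rs.1) ∈ gt ∧ Cfsg.Agent.H129.FE.orthB rs.1 rs.2 = true := by
          revert hrs
          simp only [List.mem_cons, List.not_mem_nil, or_false]
          rintro (rfl | rfl | rfl | rfl)
          · exact ⟨by decide, by decide, by decide +kernel⟩
          · exact ⟨by decide, by decide, by decide +kernel⟩
          · exact ⟨by decide, by decide, by decide +kernel⟩
          · exact ⟨by decide, by decide, by decide +kernel⟩
        rw [map_mul, fg_xe τ h1.1, fg_xe τ h1.2.1, hτ2]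
        exact (xe_comm h1.2.2 _ _).symm
      · rw [apply_two h]
        rfl
  obtain ⟨y, hy, hyx⟩ := key hx
  have : y = x := Subtype.ext hyx
  rw [← this]
  exact hy

theorem tw_le (q : ℕ) : twistedE6 F q ≤ chevE6.group F := by
  rw [TwE6Basic.twisted_le_iff]
  exact ⟨fun t _ r _ => xG_mem_group inList_E6 r t, fun t rs _ => Subgroup.mul_mem _ (xG_mem_group inList_E6 _ _)
    (xG_mem_group inList_E6 _ _)⟩

/-- an element of `²E₆(q₀)` of prime order `r ≠ 3`, `r ∣ q₀⁶ - q₀³ + 1` -/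
theorem exists_tw [Finite F] {τ : F ≃+* F} (h : orderOf τ = 2) {r : ℕ} (hr : r.Prime) (h3 : r ≠ 3)
    (hd : (r : ℤ) ∣ (Nat.card ↥(Fx τ) : ℤ) ^ 6 - (Nat.card ↥(Fx τ) : ℤ) ^ 3 + 1) :
    ∃ x : ↥(chevE6.group F), orderOf x = r ∧ (fld chevE6 τ * gam F) x = x := by
  have : Fintype F := Fintype.ofFinite F
  have : Fintype ↥(Fx τ) := Fintype.ofFinite _
  set a := Nat.card ↥(Fx τ) with ha
  have ha2 : 2 ≤ a := Finite.one_lt_card
  have hcard := card_Fx τ
  rw [h] at hcard
  have hpp : IsPrimePow a := by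
    obtain ⟨p, hp⟩ := CharP.exists ↥(Fx τ)
    obtain ⟨m, hm1, hm⟩ := FiniteField.card ↥(Fx τ) p
    rw [ha, Nat.card_eq_fintype_card, hm]
    exact hm1.isPrimePow.pow m.pos.ne'
  have hc := S1066.result (K := F) hpp (by rw [← Nat.card_eq_fintype_card]; exact hcard)
  have hd9 : r ∣ a ^ 9 + 1 := by
    have : (r : ℤ) ∣ (a : ℤ) ^ 9 + 1 := by
      have e : (a : ℤ) ^ 9 + 1 = ((a : ℤ) ^ 6 - (a : ℤ) ^ 3 + 1) * ((a : ℤ) ^ 3 + 1) := by ring
      rw [e]
      exact hd.mul_right _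
    exact_mod_cast this
  have := Fact.mk hr
  obtain ⟨x, hx⟩ : ∃ x : ↥(twistedE6 F a), orderOf x = r := by
    apply exists_prime_orderOf_dvd_card' (G := ↥(twistedE6 F a)) r
    have h1 : r ∣ Nat.gcd 3 (a + 1) * Nat.card ↥(twistedE6 F a) := by
      rw [hc]
      exact (hd9.mul_left _).mul_right _
    rcases (hr.dvd_mul).1 h1 with h | h
    · exfalso
      have h1 := (Nat.prime_dvd_prime_iff_eq hr Nat.prime_three).1 (h.trans (Nat.gcd_dvd_left _ _))
      exact h3 h1
    · exact h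
  refine ⟨⟨x, tw_le _ x.2⟩, ?_, fld_gam_tw h _ x.2⟩
  rw [← hx, ← Subgroup.orderOf_coe x, ← Subgroup.orderOf_coe]

/-- a prime `r ≠ 3` dividing `a⁶ - a³ + 1` -/
theorem exists_prime_eighteen {a : ℕ} (ha : 2 ≤ a) : ∃ r : ℕ, r.Prime ∧ r ≠ 3 ∧ (r : ℤ) ∣ (a : ℤ) ^ 6 - (a : ℤ) ^ 3 + 1 := by
  by_contra hcon
  push Not at hcon
  have h8 : 8 ≤ a ^ 3 := by
    calc 8 = 2 ^ 3 := by norm_num
      _ ≤ a ^ 3 := Nat.pow_le_pow_left ha 3
  obtain ⟨y, hy⟩ : ∃ y, y = a ^ 3 := ⟨_, rfl⟩
  rw [← hy] at h8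
  set N := y * (y - 1) + 1 with hN
  have hNz : (N : ℤ) = (a : ℤ) ^ 6 - (a : ℤ) ^ 3 + 1 := by
    rw [hN]
    push_cast [Nat.cast_sub (show 1 ≤ y by omega)]
    rw [hy]
    push_cast
    ring
  have hNb : 56 ≤ N := by
    have : 8 * 7 ≤ y * (y - 1) := Nat.mul_le_mul h8 (by omega)
    omega
  have hN0 : N ≠ 0 := by omega
  have h3 : N = 3 ^ N.primeFactorsList.length := Nat.eq_prime_pow_of_unique_prime_dvd hN0 fun {d} hd hdN => by
    by_contra h
    exact hcon d hd h (by rw [← hNz]; exact_mod_cast hdN)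
  obtain ⟨k, hk⟩ : ∃ k, k = N.primeFactorsList.length := ⟨_, rfl⟩
  rw [← hk] at h3
  have h9 : ¬ (9 : ℤ) ∣ (a : ℤ) ^ 6 - (a : ℤ) ^ 3 + 1 := by
    intro h
    have h4 : (((a : ℤ) ^ 6 - (a : ℤ) ^ 3 + 1 : ℤ) : ZMod 9) = 0 := (ZMod.intCast_zmod_eq_zero_iff_dvd _ 9).2 h
    push_cast at h4
    have key : ∀ b : ZMod 9, b ^ 6 - b ^ 3 + 1 ≠ 0 := by decide
    exact key _ h4
  have hk2 : k < 2 := by
    by_contra hlt
    apply h9
    rw [← hNz]
    have : (9 : ℕ) ∣ N := by
      rw [h3]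
      exact pow_dvd_pow 3 (show 2 ≤ k by omega)
    exact_mod_cast this
  interval_cases k <;> omega

section Cosets

variable [Finite F] {D : Dat} (hε : D.ε = 1) (hq : D.q = Nat.card F) (hM : Sit D ↥(chevE6.group F))
  {A : Subgroup (MulAut ↥(chevE6.group F))}
  (hord : ∀ a ∈ A, ∃ y : ↥(chevE6.group F), orderOf y = orderOf a)

include hε hq hM hord in
/-- **The product of the graph automorphism with the field involution.** -/
theorem not_gam_fld {τ : F ≃+* F} (h2 : orderOf τ = 2) (hc : Cos A (fld chevE6 τ * gam F)) : False := by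
  have ha2 : 2 ≤ Nat.card ↥(Fx τ) := Finite.one_lt_card
  obtain ⟨r, hr, hr3, hrd⟩ := exists_prime_eighteen ha2
  have hqq := card_Fx' hq τ
  rw [h2] at hqq
  have hrn : r ∣ D.n := by
    refine dvd_n_of hε hr hr3 ?_
    have h : (r : ℤ) ∣ (D.q : ℤ) ^ 6 + (D.q : ℤ) ^ 3 + 1 := by
      rw [hqq]
      push_cast
      have e : (((Nat.card ↥(Fx τ) : ℤ)) ^ 2) ^ 6 + (((Nat.card ↥(Fx τ) : ℤ)) ^ 2) ^ 3 + 1 =
        ((Nat.card ↥(Fx τ) : ℤ) ^ 6 - (Nat.card ↥(Fx τ) : ℤ) ^ 3 + 1) *
          ((Nat.card ↥(Fx τ) : ℤ) ^ 6 + (Nat.card ↥(Fx τ) : ℤ) ^ 3 + 1) := by ring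
      rw [e]
      exact hrd.mul_right _
    exact_mod_cast h
  have hr2 : r ≠ 2 := by rintro rfl; exact D.n_odd hrn
  obtain ⟨x, hx, hfx⟩ := exists_tw h2 hr hr3 hrd
  have hoρ : orderOf (fld chevE6 τ * gam F : MulAut ↥(chevE6.group F)) = 2 := by
    have := Fact.mk Nat.prime_two
    refine orderOf_eq_prime ?_ fun h => ?_
    · rw [(fld_gam_comm τ).mul_pow, ← fld_pow]
      have e : τ ^ 2 = 1 := by rw [← h2, pow_orderOf_eq_one]
      rw [e, fld_one, one_mul, pow_two, gam_gam]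
    · have h1 : gam F = fld chevE6 τ := by
        have e : (fld chevE6 τ : MulAut ↥(chevE6.group F)) * fld chevE6 τ = 1 := by
          rw [← fld_mul, ← pow_two]
          have e : τ ^ 2 = 1 := by rw [← h2, pow_orderOf_eq_one]
          rw [e, fld_one]
        exact mul_left_cancel (h.trans e.symm)
      have h3 := gam_vp (F := F)
      rw [h1] at h3
      exact fl_ne (h3.unique (fld_vp τ)).2.2
  obtain ⟨y, hy⟩ := hc.order_mul hord hfx (by
    rw [hx, hoρ]; exact (Nat.coprime_primes hr Nat.prime_two).2 hr2)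
  rw [hx, hoρ] at hy
  have := hM.iso y r hr hrn (hy ▸ dvd_mul_right r 2)
  rw [hy] at this
  exact D.n_odd ((Dvd.intro_left _ rfl).trans this)

end Cosets

end Cfsg.Agent.H367.E6Out
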